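import Mathlib

set_option autoImplicit false
set_option backward.isDefEq.respectTransparency false
set_option backward.isDefEq.respectTransparency.types false
set_option backward.defeqAttrib.useBackward true

universe u

/-!
# Restriction to an open commutes with direct image
-/

open CategoryTheory CategoryTheory.Limits AlgebraicGeometry TopologicalSpace Opposite

namespace Groth.Agent.DCohRestrLib

variable {X Y : Scheme.{u}} (f : X ⟶ Y) (V : Y.Opens)

/-- `(f_* M)|_V ≅ (f|_V)_* (M|_{f⁻¹ V})`. -/
noncomputable def restrictPushIso :
    Scheme.Modules.pushforward f ⋙ Scheme.Modules.restrictFunctor V.ι ≅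
      Scheme.Modules.restrictFunctor (f ⁻¹ᵁ V).ι ⋙ Scheme.Modules.pushforward (f ∣_ V) :=
  letI h1 := CategoryTheory.Functor.isContinuous_comp.{u} V.ι.opensFunctor (Opens.map f.base)
    (Opens.grothendieckTopology V.toScheme) (Opens.grothendieckTopology Y) (Opens.grothendieckTopology X)
  letI h2 := CategoryTheory.Functor.isContinuous_comp.{u} (Opens.map (f ∣_ V).base) (f ⁻¹ᵁ V).ι.opensFunctor
    (Opens.grothendieckTopology V.toScheme) (Opens.grothendieckTopology (f ⁻¹ᵁ V).toScheme)
    (Opens.grothendieckTopology X)
  SheafOfModules.pushforwardComp _ _ ≪≫ SheafOfModules.pushforwardNatIso _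
    (NatIso.ofComponents (fun W => eqToIso (image_morphismRestrict_preimage f V W)) fun _ => rfl) ≪≫
    SheafOfModules.pushforwardCongr (by
      ext W r
      simp [SheafedSpace.sheaf]
      have h := congrArg (fun m => (m : Γ(Y, V.ι ''ᵁ W.unop) ⟶ _).hom r) (morphismRestrict_app f V W.unop)
      simp only [eqToHom_op, CommRingCat.comp_apply] at h
      exact h.symm) ≪≫
    (SheafOfModules.pushforwardComp _ _).symm

end Groth.Agent.DCohRestrLib
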