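import Groth.Agent.DCohRestrLib.Scheme
import Groth.Agent.PerfCompLib.ExtZero
import Groth.Agent.FiltSectLib.Stalks
import Groth.Agent.DerLib.KInjTriangulated

set_option autoImplicit false
set_option linter.style.haveILetI false
set_option backward.isDefEq.respectTransparency false
set_option backward.isDefEq.respectTransparency.types false

universe u

/-!
# The Mayer–Vietoris sequence of direct images
-/

open CategoryTheory CategoryTheory.Limits AlgebraicGeometry TopologicalSpace Opposite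
open Groth.Agent.DerLib CategoryTheory.Pretriangulated

attribute [local instance] HasDerivedCategory.standard

namespace Groth.Agent.DCohRestrLib

variable {X : Scheme.{u}}

/-- `M ↦ j_*(M|_U)`. -/
noncomputable abbrev pushU (U : X.Opens) : X.Modules ⥤ X.Modules :=
  Scheme.Modules.restrictFunctor U.ι ⋙ Scheme.Modules.pushforward U.ι

/-- The unit `M ⟶ j_*(M|_U)`. -/
noncomputable abbrev ρ (U : X.Opens) : 𝟭 X.Modules ⟶ pushU U :=
  (Scheme.Modules.restrictAdjunction U.ι).unit

theorem image_preimage_eq_inf (U W : X.Opens) : U.ι ''ᵁ (U.ι ⁻¹ᵁ W) = U ⊓ W := by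
  rw [Scheme.Hom.image_preimage_eq_opensRange_inf, Scheme.Opens.opensRange_ι]

theorem bijective_map {M : X.Modules} {A B : X.Opens} (h : B ≤ A) (h' : A ≤ B) :
    Function.Bijective (M.presheaf.map (homOfLE h).op) := by
  haveI : IsIso (homOfLE h) := ⟨homOfLE h', Subsingleton.elim _ _, Subsingleton.elim _ _⟩
  exact ConcreteCategory.bijective_of_isIso _

theorem isIso_stalk_ρ {U : X.Opens} {x : X} (hx : x ∈ U) (M : X.Modules) :
    IsIso ((DerSch.stalkFunctor X x).map ((ρ U).app M)) :=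
  FiltSectLib.isIso_stalk_of_bijective _ U (fun W hW => by
    rw [Scheme.Modules.restrictAdjunction_unit_app_app]
    exact bijective_map _ ((le_inf hW le_rfl).trans (image_preimage_eq_inf U W).ge)) x hx

theorem bijective_pushU_map (V : X.Opens) (M : X.Modules) {A B : X.Opens} (h : B ≤ A)
    (h' : V ⊓ A ≤ V ⊓ B) : Function.Bijective (((pushU V).obj M).presheaf.map (homOfLE h).op) :=
  bijective_map (M := M) (A := V.ι ''ᵁ (V.ι ⁻¹ᵁ A)) (B := V.ι ''ᵁ (V.ι ⁻¹ᵁ B))
    (Scheme.Hom.image_mono V.ι (Scheme.Hom.preimage_mono V.ι h))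
    ((image_preimage_eq_inf V A).le.trans (h'.trans (image_preimage_eq_inf V B).ge))

theorem isIso_stalk_ρ_pushU {U V : X.Opens} {x : X} (hx : x ∈ U) (M : X.Modules) :
    IsIso ((DerSch.stalkFunctor X x).map ((ρ (U ⊓ V)).app ((pushU V).obj M))) :=
  FiltSectLib.isIso_stalk_of_bijective _ U (fun W hW => by
    rw [Scheme.Modules.restrictAdjunction_unit_app_app]
    exact bijective_pushU_map V M _ ((le_inf inf_le_left (le_inf (le_inf (inf_le_right.trans hW) inf_le_left) inf_le_right)).trans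
      (congrArg (V ⊓ ·) (image_preimage_eq_inf (U ⊓ V) W)).ge)) x hx

theorem isIso_pushU_map_ρ {U W : X.Opens} (h : W ≤ U) (M : X.Modules) :
    IsIso ((pushU W).map ((ρ U).app M)) :=
  haveI := PerfCompLib.isIso_restrict_of_stalks W.ι ((ρ U).app M)
    fun x => isIso_stalk_ρ (h x.2) M
  inferInstanceAs (IsIso ((Scheme.Modules.pushforward W.ι).map
    ((Scheme.Modules.restrictFunctor W.ι).map ((ρ U).app M))))

/-- `j_{U*}(M|_U) ⟶ j_{W*}(M|_W)` for `W ≤ U`. -/
noncomputable def resT {U W : X.Opens} (h : W ≤ U) : pushU U ⟶ pushU W where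
  app M :=
    haveI := isIso_pushU_map_ρ h M
    (ρ W).app ((pushU U).obj M) ≫ inv ((pushU W).map ((ρ U).app M))
  naturality M N φ := by
    haveI := isIso_pushU_map_ρ h M
    haveI := isIso_pushU_map_ρ h N
    rw [← cancel_mono ((pushU W).map ((ρ U).app N))]
    simp only [Category.assoc, IsIso.inv_hom_id, Category.comp_id]
    rw [← Functor.map_comp]
    refine ((ρ W).naturality ((pushU U).map φ)).trans ?_
    refine congrArg (_ ≫ ·) ?_
    rw [eq_comm, IsIso.inv_comp_eq, ← Functor.map_comp]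
    exact congrArg _ ((ρ U).naturality φ)

theorem ρ_resT {U W : X.Opens} (h : W ≤ U) (M : X.Modules) :
    (ρ U).app M ≫ (resT h).app M = (ρ W).app M := by
  haveI := isIso_pushU_map_ρ h M
  have e := (ρ W).naturality ((ρ U).app M)
  change (ρ U).app M ≫ (ρ W).app ((pushU U).obj M) ≫ inv ((pushU W).map ((ρ U).app M)) = _
  rw [← Category.assoc, IsIso.comp_inv_eq]
  exact e

theorem isIso_stalk_resT {U V : X.Opens} {x : X} (hx : x ∈ U) (h : U ⊓ V ≤ V) (M : X.Modules) :
    IsIso ((DerSch.stalkFunctor X x).map ((resT h).app M)) := by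
  haveI := isIso_pushU_map_ρ h M
  haveI := isIso_stalk_ρ_pushU (V := V) hx M
  change IsIso ((DerSch.stalkFunctor X x).map
    ((ρ (U ⊓ V)).app ((pushU V).obj M) ≫ inv ((pushU (U ⊓ V)).map ((ρ V).app M))))
  rw [Functor.map_comp]
  infer_instance

theorem isIso_stalk_resT' {U V : X.Opens} {x : X} (hx : x ∈ V) (h : U ⊓ V ≤ U) (M : X.Modules) :
    IsIso ((DerSch.stalkFunctor X x).map ((resT h).app M)) := by
  obtain ⟨W, hW⟩ : ∃ W, W = U ⊓ V := ⟨_, rfl⟩
  have key : ∀ (W : X.Opens) (h : W ≤ U), W = V ⊓ U →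
      IsIso ((DerSch.stalkFunctor X x).map ((resT h).app M)) := by
    rintro W h rfl
    exact isIso_stalk_resT hx h M
  exact key _ h (inf_comm U V)

theorem isIso_map_neg {B C : Type*} [Category B] [Category C] [Preadditive B] [Preadditive C]
    (G : B ⥤ C) [G.Additive] {P Q : B} (φ : P ⟶ Q) [IsIso (G.map φ)] : IsIso (G.map (-φ)) :=
  ⟨-inv (G.map φ), by simp [Functor.map_neg], by simp [Functor.map_neg]⟩

variable (U V : X.Opens) (K : CochainComplex X.Modules ℤ)

/-- `j_*(K|_U)` for complexes. -/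
noncomputable abbrev PC (W : X.Opens) : CochainComplex X.Modules ℤ :=
  ((pushU W).mapHomologicalComplex (ComplexShape.up ℤ)).obj K

/-- The unit on complexes. -/
noncomputable abbrev ρC (W : X.Opens) : K ⟶ PC K W where
  f i := (ρ W).app (K.X i)
  comm' i j _ := ((ρ W).naturality (K.d i j)).symm

/-- Restriction on complexes. -/
noncomputable abbrev resC {U W : X.Opens} (h : W ≤ U) : PC K U ⟶ PC K W :=
  (NatTrans.mapHomologicalComplex (resT h) (ComplexShape.up ℤ)).app K

theorem ρC_resC {U W : X.Opens} (h : W ≤ U) : ρC K U ≫ resC K h = ρC K W :=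
  HomologicalComplex.hom_ext _ _ fun i => ρ_resT h (K.X i)

/-- The Mayer–Vietoris sequence of direct images, on complexes. -/
noncomputable def mvPush : ShortComplex (CochainComplex X.Modules ℤ) :=
  ShortComplex.mk (biprod.lift (ρC K U) (ρC K V))
    (biprod.desc (resC K (inf_le_left : U ⊓ V ≤ U)) (-resC K (inf_le_right : U ⊓ V ≤ V)))
    (by rw [biprod.lift_desc, Preadditive.comp_neg, ρC_resC, ρC_resC, add_neg_cancel])

theorem shortExact_mvPush (hUV : U ⊔ V = ⊤) : (mvPush U V K).ShortExact := by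
  refine HomologicalComplex.shortExact_of_degreewise_shortExact _ fun i =>
    PerfCompLib.shortExact_of_stalks _ fun x => ?_
  let G := HomologicalComplex.eval X.Modules (ComplexShape.up ℤ) i ⋙ DerSch.stalkFunctor X x
  change ((mvPush U V K).map G).ShortExact
  by_cases hV : x ∈ V
  · haveI : IsIso (G.map (ρC K V)) := isIso_stalk_ρ hV (K.X i)
    haveI : IsIso (G.map (resC K (inf_le_left : U ⊓ V ≤ U))) := isIso_stalk_resT' hV inf_le_left (K.X i)
    exact (PerfCompLib.splittingOfIsIso G (ρC K U) (ρC K V) (resC K (inf_le_left : U ⊓ V ≤ U))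
      (-resC K (inf_le_right : U ⊓ V ≤ V)) (mvPush U V K).zero).shortExact
  · have hU : x ∈ U := by
      have : x ∈ U ⊔ V := by rw [hUV]; trivial
      exact this.resolve_right hV
    haveI : IsIso (G.map (ρC K U)) := isIso_stalk_ρ hU (K.X i)
    haveI : IsIso (G.map (resC K (inf_le_right : U ⊓ V ≤ V))) := isIso_stalk_resT hU inf_le_right (K.X i)
    haveI := isIso_map_neg G (resC K (inf_le_right : U ⊓ V ≤ V))
    have hw : biprod.lift (ρC K V) (ρC K U) ≫ biprod.desc (-resC K (inf_le_right : U ⊓ V ≤ V))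
        (resC K (inf_le_left : U ⊓ V ≤ U)) = 0 := by
      rw [biprod.lift_desc, Preadditive.comp_neg, ρC_resC, ρC_resC, neg_add_cancel]
    let e : ShortComplex.mk _ _ hw ≅ mvPush U V K :=
      ShortComplex.isoMk (Iso.refl _) (biprod.braiding _ _) (Iso.refl _)
        ((Category.id_comp _).trans (by apply biprod.hom_ext <;> simp [mvPush]))
        ((by apply biprod.hom_ext' <;> simp [mvPush] :
          (biprod.braiding (PC K V) (PC K U)).hom ≫ (mvPush U V K).g = biprod.desc
            (-resC K (inf_le_right : U ⊓ V ≤ V)) (resC K (inf_le_left : U ⊓ V ≤ U))).trans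
          (Category.comp_id _).symm)
    exact ShortComplex.shortExact_of_iso (G.mapShortComplex.mapIso e)
      (PerfCompLib.splittingOfIsIso G (ρC K V) (ρC K U) (-resC K (inf_le_right : U ⊓ V ≤ V))
        (resC K (inf_le_left : U ⊓ V ≤ U)) hw).shortExact

theorem hasRpush {Y Z : Scheme.{u}} (g : Y ⟶ Z) : DCoh.HasRpush g :=
  KInjDerived.hasRightDerivedFunctor _ KFlatLib.enoughKInj_modules

theorem hasRΓ (Y : Scheme.{u}) : DCoh.HasRΓ Y :=
  KInjDerived.hasRightDerivedFunctor _ KFlatLib.enoughKInj_modules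

/-- `Q(j_*(I|_U)) ≅ Rj_*(E|_U)`. -/
theorem nonempty_PC_iso (W : X.Opens) [DCoh.HasRpush W.ι] (I : CochainComplex X.Modules ℤ) [I.IsKInjective] :
    Nonempty (DerivedCategory.Q.obj (PC I W) ≅
      (DCoh.Rpush W.ι).obj ((DCoh.restrictD W.ι).obj (DerivedCategory.Q.obj I))) := by
  let R := Scheme.Modules.restrictFunctor W.ι
  let IW := (R.mapHomologicalComplex (ComplexShape.up ℤ)).obj I
  haveI : CochainComplex.IsKInjective IW := isKInjective_restrictCx W I
  haveI := isIso_pushUnit W.ι IW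
  let P := Scheme.Modules.pushforward W.ι
  let c : PC I W ≅ (P.mapHomologicalComplex (ComplexShape.up ℤ)).obj IW :=
    HomologicalComplex.Hom.isoOfComponents (fun i => Iso.refl _)
      (fun i j _ => (Category.id_comp _).trans (Category.comp_id _).symm)
  let u : DerivedCategory.Qh.obj ((HomotopyCategory.quotient X.Modules (ComplexShape.up ℤ)).obj
      ((P.mapHomologicalComplex (ComplexShape.up ℤ)).obj IW)) ≅
      (DCoh.Rpush W.ι).obj (DerivedCategory.Qh.obj
        ((HomotopyCategory.quotient (W : Scheme.{u}).Modules (ComplexShape.up ℤ)).obj IW)) :=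
    @asIso _ _ _ _ ((pushUnit W.ι).app
      ((HomotopyCategory.quotient (W : Scheme.{u}).Modules (ComplexShape.up ℤ)).obj IW)) ‹_›
  exact ⟨DerivedCategory.Q.mapIso c ≪≫ ((DerivedCategory.quotientCompQhIso X.Modules).app _).symm ≪≫
    u ≪≫ (DCoh.Rpush W.ι).mapIso ((DerivedCategory.quotientCompQhIso _).app IW ≪≫
      (R.mapDerivedCategoryFactors.app I).symm)⟩

/-- The Mayer–Vietoris triangle of direct images. -/
theorem exists_mv_push (hUV : U ⊔ V = ⊤) [DCoh.HasRpush U.ι] [DCoh.HasRpush V.ι]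
    [DCoh.HasRpush (U ⊓ V).ι] (E : DCoh.D X) :
    ∃ T : Triangle (DCoh.D X), T ∈ distinguishedTriangles ∧ Nonempty (T.obj₁ ≅ E) ∧
      Nonempty (T.obj₂ ≅ (DCoh.Rpush U.ι).obj ((DCoh.restrictD U.ι).obj E) ⊞
        (DCoh.Rpush V.ι).obj ((DCoh.restrictD V.ι).obj E)) ∧
      Nonempty (T.obj₃ ≅ (DCoh.Rpush (U ⊓ V).ι).obj ((DCoh.restrictD (U ⊓ V).ι).obj E)) := by
  haveI : PreservesFiniteBiproducts (DerivedCategory.Q (C := X.Modules)) :=
    Functor.preservesFiniteBiproductsOfAdditive _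
  haveI : PreservesBinaryBiproducts (DerivedCategory.Q (C := X.Modules)) :=
    preservesBinaryBiproducts_of_preservesBiproducts _
  obtain ⟨I, hI, ⟨e⟩⟩ := KInjDerived.essSurj_kInjective KFlatLib.enoughKInj_modules E
  let e' : DerivedCategory.Q.obj I ≅ E := ((DerivedCategory.quotientCompQhIso _).app I).symm ≪≫ e
  have hT := DerivedCategory.triangleOfSES_distinguished (shortExact_mvPush U V I hUV)
  obtain ⟨e₁⟩ := nonempty_PC_iso U I
  obtain ⟨e₂⟩ := nonempty_PC_iso V I
  obtain ⟨e₃⟩ := nonempty_PC_iso (U ⊓ V) I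
  refine ⟨_, hT, ⟨e'⟩, ⟨DerivedCategory.Q.mapBiprod _ _ ≪≫ biprod.mapIso
    (e₁ ≪≫ (DCoh.Rpush U.ι).mapIso ((DCoh.restrictD U.ι).mapIso e'))
    (e₂ ≪≫ (DCoh.Rpush V.ι).mapIso ((DCoh.restrictD V.ι).mapIso e'))⟩,
    ⟨e₃ ≪≫ (DCoh.Rpush (U ⊓ V).ι).mapIso ((DCoh.restrictD (U ⊓ V).ι).mapIso e')⟩⟩

/-- A distinguished triangle with prescribed objects, from an isomorphic one. -/
theorem exists_triangle_of_iso {D : Type*} [Category D] [Preadditive D] [HasZeroObject D]
    [HasShift D ℤ] [∀ n : ℤ, (shiftFunctor D n).Additive] [Pretriangulated D]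
    (T : Triangle D) (hT : T ∈ distinguishedTriangles) {A B C : D}
    (e₁ : T.obj₁ ≅ A) (e₂ : T.obj₂ ≅ B) (e₃ : T.obj₃ ≅ C) :
    ∃ (a : A ⟶ B) (b : B ⟶ C) (c : C ⟶ A⟦(1 : ℤ)⟧), Triangle.mk a b c ∈ distinguishedTriangles := by
  refine ⟨e₁.inv ≫ T.mor₁ ≫ e₂.hom, e₂.inv ≫ T.mor₂ ≫ e₃.hom,
    e₃.inv ≫ T.mor₃ ≫ e₁.hom⟦(1 : ℤ)⟧', isomorphic_distinguished _ hT _ ?_⟩
  exact Triangle.isoMk _ _ e₁.symm e₂.symm e₃.symm (by simp) (by simp)
    (by simp [← Functor.map_comp])

end Groth.Agent.DCohRestrLib
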