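import Groth.Agent.DCohRestrLib.MV
import Groth.Agent.DerLib.ExactHomology
import Groth.Prelude.Def_CohB1
import Mathlib.CategoryTheory.Adjunction.Triple

set_option autoImplicit false
set_option linter.style.haveILetI false
set_option backward.isDefEq.respectTransparency false
set_option backward.isDefEq.respectTransparency.types false

universe u

/-!
# Supports of cohomology sheaves
-/

open CategoryTheory CategoryTheory.Limits AlgebraicGeometry TopologicalSpace Opposite
open Groth.Agent.DerLib CategoryTheory.Pretriangulated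

attribute [local instance] HasDerivedCategory.standard

namespace Groth.Agent.DCohRestrLib

variable {X Y : Scheme.{u}}

theorem isZero_iff_subsingleton_stalks (M : X.Modules) :
    IsZero M ↔ ∀ x : X, Subsingleton (M.presheaf.stalk x) := by
  rw [KFlatLib.isZero_iff_forall_stalk]
  refine forall_congr' fun x => ⟨fun h => ?_, fun h => ?_⟩
  · exact ModuleCat.subsingleton_of_isZero h
  · haveI : Subsingleton ((DerSch.stalkFunctor X x).obj M) := h
    exact ModuleCat.isZero_of_subsingleton _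

theorem isZero_iff_support_empty (M : X.Modules) : IsZero M ↔ CohB1.support M = ∅ := by
  rw [isZero_iff_subsingleton_stalks, Set.eq_empty_iff_forall_notMem]
  exact forall_congr' fun x => not_not.symm

theorem isZero_iff_HD (E : DCoh.D X) : IsZero E ↔ ∀ i : ℤ, IsZero (DCoh.HD E i) := by
  refine ⟨fun h i => (DerivedCategory.homologyFunctor X.Modules i).map_isZero h, fun h => ?_⟩
  haveI : IsIso (0 : E ⟶ E) := by
    rw [DerivedCategory.isIso_iff]
    intro i
    exact ⟨0, (h i).eq_of_src _ _, (h i).eq_of_src _ _⟩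
  rw [IsZero.iff_id_eq_zero, ← IsIso.hom_inv_id (0 : E ⟶ E), zero_comp]

/-- `HD` commutes with restriction. -/
noncomputable def restrictHDIso {W : Scheme.{u}} (j : W ⟶ X) [IsOpenImmersion j]
    [PreservesFiniteLimits (Scheme.Modules.restrictFunctor j)] (E : DCoh.D X) (i : ℤ) :
    DCoh.HD ((DCoh.restrictD j).obj E) i ≅ (Scheme.Modules.restrictFunctor j).obj (DCoh.HD E i) :=
  (ExactHomology.homologyIso (Scheme.Modules.restrictFunctor j) i).app E

theorem subsingleton_stalk_restrict {W : Scheme.{u}} (j : W ⟶ X) [IsOpenImmersion j]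
    (M : X.Modules) (w : W) :
    Subsingleton (((Scheme.Modules.restrictFunctor j).obj M).presheaf.stalk w) ↔
      Subsingleton (M.presheaf.stalk (j w)) :=
  ((Scheme.Modules.restrictStalkNatIso j w).app M).addCommGroupIsoToAddEquiv.toEquiv.subsingleton_congr

theorem subsingleton_stalk_of_iso {M N : X.Modules} (e : M ≅ N) (x : X) :
    Subsingleton (M.presheaf.stalk x) ↔ Subsingleton (N.presheaf.stalk x) :=
  ((Scheme.Modules.toPresheaf X ⋙ TopCat.Presheaf.stalkFunctor Ab.{u} (x : X.toTopCat)).mapIso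
    e).addCommGroupIsoToAddEquiv.toEquiv.subsingleton_congr

theorem support_HD_restrictD {W : Scheme.{u}} (j : W ⟶ X) [IsOpenImmersion j]
    [PreservesFiniteLimits (Scheme.Modules.restrictFunctor j)] (E : DCoh.D X) (i : ℤ) :
    CohB1.support (DCoh.HD ((DCoh.restrictD j).obj E) i) =
      (fun w : W => j w) ⁻¹' CohB1.support (DCoh.HD E i) := by
  ext w
  exact not_congr ((subsingleton_stalk_of_iso (restrictHDIso j E i) w).trans
    (subsingleton_stalk_restrict j _ w))

theorem isZero_restrictD_iff (U : X.Opens) (E : DCoh.D X) :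
    IsZero ((DCoh.restrictD U.ι).obj E) ↔
      ∀ i : ℤ, ∀ x ∈ U, x ∉ CohB1.support (DCoh.HD E i) := by
  rw [isZero_iff_HD]
  refine forall_congr' fun i => ?_
  rw [isZero_iff_support_empty, support_HD_restrictD, Set.eq_empty_iff_forall_notMem]
  exact ⟨fun h x hx => h ⟨x, hx⟩, fun h w => h _ w.2⟩

theorem isZero_Rpush (f : X ⟶ Y) [DCoh.HasRpush f] {E : DCoh.D X} (h : IsZero E) :
    IsZero ((DCoh.Rpush f).obj E) := by
  obtain ⟨_, _⟩ := KInjDerived.exists_isTriangulated_map KFlatLib.enoughKInj_modules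
    (Scheme.Modules.pushforward f) (DCoh.Rpush f) (pushUnit f)
  exact (DCoh.Rpush f).map_isZero h

/-- The cohomology of `Rf_* E` is supported in the image of a closed set supporting that of `E`. -/
theorem support_HD_Rpush_subset (f : X ⟶ Y) [DCoh.HasRpush f] (Z : Set X) (hfZ : IsClosed (f.base '' Z))
    (E : DCoh.D X) (hE : ∀ i : ℤ, CohB1.support (DCoh.HD E i) ⊆ Z) (i : ℤ) :
    CohB1.support (DCoh.HD ((DCoh.Rpush f).obj E) i) ⊆ f.base '' Z := by
  intro y hy
  by_contra hn
  let V : Y.Opens := ⟨(f.base '' Z)ᶜ, hfZ.isOpen_compl⟩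
  haveI := hasRpush (f ∣_ V)
  obtain ⟨e⟩ := nonempty_restrictD_Rpush f V
  have h0 : IsZero ((DCoh.restrictD (f ⁻¹ᵁ V).ι).obj E) :=
    (isZero_restrictD_iff _ E).2 fun i x hx hx' => hx ⟨x, hE i hx', rfl⟩
  have h1 : IsZero ((DCoh.restrictD V.ι).obj ((DCoh.Rpush f).obj E)) :=
    (isZero_Rpush (f ∣_ V) h0).of_iso (e.app E)
  exact (isZero_restrictD_iff V _).1 h1 i y hn hy

/-- `j_! ⊣ (-)|_U` has invertible unit. -/
theorem isIso_extZeroAdj_unit (U : X.Opens) : IsIso (CxOX.extZeroAdj U.ι).unit := by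
  let t : Adjunction.Triple (CxOX.extZero U.ι) (Scheme.Modules.restrictFunctor U.ι)
      (Scheme.Modules.pushforward U.ι) :=
    ⟨CxOX.extZeroAdj U.ι, Scheme.Modules.restrictAdjunction U.ι⟩
  exact t.isIso_unit_iff_isIso_counit.2 inferInstance

theorem subsingleton_stalk_extZero {U : X.Opens} {x : X} (hx : x ∉ U) (H : (U : Scheme.{u}).Modules) :
    Subsingleton (((CxOX.extZero U.ι).obj H).presheaf.stalk x) := by
  haveI := isIso_extZeroAdj_unit U
  have e : (CxOX.extZero U.ι).obj H ≅ (PerfCompLib.extU U).obj ((CxOX.extZero U.ι).obj H) :=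
    (CxOX.extZero U.ι).mapIso (asIso ((CxOX.extZeroAdj U.ι).unit.app H))
  rw [subsingleton_stalk_of_iso e]
  exact ModuleCat.subsingleton_of_isZero (PerfCompLib.isZero_stalk_extU hx _)

theorem nonempty_restrictD_extZeroD (U : X.Opens) [PreservesFiniteLimits (CxOX.extZero U.ι)]
    (F : DCoh.D (U : Scheme.{u})) :
    Nonempty ((DCoh.restrictD U.ι).obj ((CxOX.extZeroD U.ι).obj F) ≅ F) := by
  haveI := isIso_extZeroAdj_unit U
  let R := Scheme.Modules.restrictFunctor U.ι
  let J := CxOX.extZero U.ι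
  let K := DerivedCategory.Q.objPreimage F
  let eK : DerivedCategory.Q.obj K ≅ F := DerivedCategory.Q.objObjPreimageIso F
  let c : K ≅ (R.mapHomologicalComplex (ComplexShape.up ℤ)).obj
      ((J.mapHomologicalComplex (ComplexShape.up ℤ)).obj K) :=
    HomologicalComplex.Hom.isoOfComponents (fun i => asIso ((CxOX.extZeroAdj U.ι).unit.app (K.X i)))
      (fun i j _ => ((CxOX.extZeroAdj U.ι).unit.naturality (K.d i j)).symm)
  exact ⟨(DCoh.restrictD U.ι).mapIso ((CxOX.extZeroD U.ι).mapIso eK.symm ≪≫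
      J.mapDerivedCategoryFactors.app K) ≪≫
    R.mapDerivedCategoryFactors.app _ ≪≫ DerivedCategory.Q.mapIso c.symm ≪≫ eK⟩

theorem support_HD_extZeroD (U : X.Opens) [PreservesFiniteLimits (CxOX.extZero U.ι)]
    (F : DCoh.D (U : Scheme.{u})) (i : ℤ) :
    CohB1.support (DCoh.HD ((CxOX.extZeroD U.ι).obj F) i) ⊆
      (fun x : (U : Scheme.{u}) => U.ι x) '' CohB1.support (DCoh.HD F i) := by
  intro x hx
  by_cases hU : x ∈ U
  · obtain ⟨e⟩ := nonempty_restrictD_extZeroD U F
    refine ⟨⟨x, hU⟩, ?_, rfl⟩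
    have h1 : (⟨x, hU⟩ : (U : Scheme.{u})) ∈
        CohB1.support (DCoh.HD ((DCoh.restrictD U.ι).obj ((CxOX.extZeroD U.ι).obj F)) i) := by
      rw [support_HD_restrictD]
      exact hx
    exact fun h => h1 ((subsingleton_stalk_of_iso
      ((DerivedCategory.homologyFunctor _ i).mapIso e) _).2 h)
  · exact absurd ((subsingleton_stalk_of_iso
      ((ExactHomology.homologyIso (CxOX.extZero U.ι) i).app F) x).2 (subsingleton_stalk_extZero hU _)) hx

/-- An object supported on a closed subset of `U` is the direct image of its restriction. -/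
theorem nonempty_iso_Rpush_restrict (U : X.Opens) [DCoh.HasRpush U.ι] (T : Set X) (hT : IsClosed T)
    (hTU : T ⊆ (U : Set X)) (E : DCoh.D X) (hE : ∀ i : ℤ, CohB1.support (DCoh.HD E i) ⊆ T) :
    Nonempty (E ≅ (DCoh.Rpush U.ι).obj ((DCoh.restrictD U.ι).obj E)) := by
  let V : X.Opens := ⟨Tᶜ, hT.isOpen_compl⟩
  have hUV : U ⊔ V = ⊤ := eq_top_iff.2 fun x _ => (em (x ∈ T)).imp (fun h => hTU h) id
  haveI := hasRpush V.ι
  haveI := hasRpush (U ⊓ V).ι
  obtain ⟨T', hT', ⟨e₁⟩, ⟨e₂⟩, ⟨e₃⟩⟩ := exists_mv_push U V hUV E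
  have zV : IsZero ((DCoh.restrictD V.ι).obj E) :=
    (isZero_restrictD_iff _ E).2 fun i x hx h => hx (hE i h)
  have zUV : IsZero ((DCoh.restrictD (U ⊓ V).ι).obj E) :=
    (isZero_restrictD_iff _ E).2 fun i x hx h => hx.2 (hE i h)
  haveI : IsIso T'.mor₁ := (T'.isZero₃_iff_isIso₁ hT').1 ((isZero_Rpush _ zUV).of_iso e₃)
  have zP := isZero_Rpush V.ι zV
  exact ⟨e₁.symm ≪≫ asIso T'.mor₁ ≪≫ e₂ ≪≫
    { hom := biprod.fst
      inv := biprod.inl
      hom_inv_id := by
        rw [← biprod.total, show (biprod.snd : (DCoh.Rpush U.ι).obj ((DCoh.restrictD U.ι).obj E) ⊞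
          (DCoh.Rpush V.ι).obj ((DCoh.restrictD V.ι).obj E) ⟶ _) = 0 from zP.eq_of_tgt _ _]
        simp
      inv_hom_id := biprod.inl_fst }⟩

end Groth.Agent.DCohRestrLib
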