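import Groth.Agent.DCohRestrLib.Glue
import Groth.Agent.KFlatLib.LpullTensor
import Groth.Agent.TensorAssocLib.Derived
import Groth.Prelude.Def_DCoh4

set_option autoImplicit false
set_option linter.style.haveILetI false
set_option backward.isDefEq.respectTransparency false
set_option backward.isDefEq.respectTransparency.types false

universe u

/-!
# Restriction of internal homs
-/

open CategoryTheory CategoryTheory.Limits AlgebraicGeometry HomologicalComplex
open Groth.Agent.DerLib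

attribute [local instance] HasDerivedCategory.standard

namespace Groth.Agent.DCohRestrLib

variable {X : Scheme.{u}} (U : X.Opens) (K : CochainComplex X.Modules ℤ)

/-- Restriction of complexes to `U`. -/
noncomputable abbrev resCx : CochainComplex X.Modules ℤ ⥤ CochainComplex (U : Scheme.{u}).Modules ℤ :=
  (Scheme.Modules.restrictFunctor U.ι).mapHomologicalComplex (ComplexShape.up ℤ)

/-- Restriction is the pullback, on complexes. -/
noncomputable def resPullIso : resCx U ≅ KFlatLib.pullCx U.ι :=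
  NatIso.mapHomologicalComplex (Scheme.Modules.restrictFunctorIsoPullback U.ι) (ComplexShape.up ℤ)

section Generic

variable {C₁ D₁ : Type*} [Category C₁] [Category D₁] [Preadditive C₁] [Preadditive D₁]
  (T : C₁ ⥤ C₁ ⥤ C₁) [T.Additive] [∀ a, (T.obj a).Additive]
  (T' : D₁ ⥤ D₁ ⥤ D₁) [T'.Additive] [∀ a, (T'.obj a).Additive]
  (G : C₁ ⥤ D₁) [G.Additive] [PreservesColimitsOfSize.{0, 0} G]
  [∀ P Q : CochainComplex C₁ ℤ, HasMapBifunctor P Q T (ComplexShape.up ℤ)]
  [∀ P Q : CochainComplex D₁ ℤ, HasMapBifunctor P Q T' (ComplexShape.up ℤ)]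
  (e : ∀ a b, (T'.obj (G.obj a)).obj (G.obj b) ≅ G.obj ((T.obj a).obj b))
  (he₁ : ∀ {a a' : C₁} (f : a ⟶ a') (b : C₁),
    (T'.map (G.map f)).app (G.obj b) ≫ (e a' b).hom = (e a b).hom ≫ G.map ((T.map f).app b))
  (he₂ : ∀ (a : C₁) {b b' : C₁} (g : b ⟶ b'),
    (T'.obj (G.obj a)).map (G.map g) ≫ (e a b').hom = (e a b).hom ≫ G.map ((T.obj a).map g))

include he₁ he₂ in
/-- The comparison of total complexes, natural in the first complex. -/
noncomputable def totalNatIso (L : CochainComplex C₁ ℤ) :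
    G.mapHomologicalComplex (ComplexShape.up ℤ) ⋙
        T'.map₂CochainComplex.flip.obj ((G.mapHomologicalComplex (ComplexShape.up ℤ)).obj L) ≅
      T.map₂CochainComplex.flip.obj L ⋙ G.mapHomologicalComplex (ComplexShape.up ℤ) :=
  NatIso.ofComponents (fun P => KFlatLib.totalMapIso T T' G G G e he₁ he₂ P L) (fun {P Q} g => by
    refine Eq.trans ?_ (KFlatLib.totalMapIso_natural T T' G G G e he₁ he₂ g (𝟙 L))
    rw [CategoryTheory.Functor.map_id]
    rfl)

include he₁ he₂ in
/-- The comparison transported along an isomorphism of functors. -/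
noncomputable def totalNatIsoOfIso {G₀ : C₁ ⥤ D₁} [G₀.Additive] (τ : G₀ ≅ G) (L : CochainComplex C₁ ℤ) :
    T.map₂CochainComplex.flip.obj L ⋙ G₀.mapHomologicalComplex (ComplexShape.up ℤ) ≅
      G₀.mapHomologicalComplex (ComplexShape.up ℤ) ⋙
        T'.map₂CochainComplex.flip.obj ((G₀.mapHomologicalComplex (ComplexShape.up ℤ)).obj L) :=
  let τc := NatIso.mapHomologicalComplex τ (ComplexShape.up ℤ)
  Functor.isoWhiskerLeft _ τc ≪≫ (totalNatIso T T' G e he₁ he₂ L).symm ≪≫
    Functor.isoWhiskerRight τc.symm _ ≪≫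
      Functor.isoWhiskerLeft _ (T'.map₂CochainComplex.flip.mapIso (τc.symm.app L))

end Generic

/-- Restriction commutes with `- ⊗ K`, naturally. -/
noncomputable def resTRIso :
    TensorAssocLib.tR K ⋙ resCx U ≅ resCx U ⋙ TensorAssocLib.tR ((resCx U).obj K) :=
  have : PreservesColimitsOfSize.{0, 0} (Scheme.Modules.pullback U.ι) :=
    (Scheme.Modules.pullbackPushforwardAdjunction U.ι).leftAdjoint_preservesColimits
  totalNatIsoOfIso (DCoh.tensorBi (X := X)) (DCoh.tensorBi (X := (U : Scheme.{u})))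
    (Scheme.Modules.pullback U.ι)
    (fun M N => (asIso (KFlatLib.pullθ U.ι M N)).symm)
    (fun a N => (Iso.comp_inv_eq (asIso (KFlatLib.pullθ U.ι _ N))).mpr
      (((congrArg (_ ≫ ·) (KFlatLib.pullθ_natural_left U.ι a N)).trans
        (Iso.inv_hom_id_assoc (asIso (KFlatLib.pullθ U.ι _ N)) _)).symm.trans (Category.assoc _ _ _).symm))
    (fun M {_ _} b => (Iso.comp_inv_eq (asIso (KFlatLib.pullθ U.ι M _))).mpr
      (((congrArg (_ ≫ ·) (KFlatLib.pullθ_natural_right U.ι M b)).trans
        (Iso.inv_hom_id_assoc (asIso (KFlatLib.pullθ U.ι M _)) _)).symm.trans (Category.assoc _ _ _).symm))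
    (Scheme.Modules.restrictFunctorIsoPullback U.ι) K

theorem isKFlat_of_iso {Y : Scheme.{u}} {P Q : CochainComplex Y.Modules ℤ} (e : P ≅ Q)
    (h : DCoh.IsKFlat P) : DCoh.IsKFlat Q :=
  KFlatLib.isKFlat_of_stalks Q fun x =>
    KFlatLib.isKFlat_ring_of_iso ((KFlatLib.stalkCx Y x).mapIso e) (KFlatLib.stalks_isKFlat h x)

theorem isKFlat_resCx {P : CochainComplex X.Modules ℤ} (hP : DCoh.IsKFlat P) :
    DCoh.IsKFlat ((resCx U).obj P) :=
  isKFlat_of_iso ((resPullIso U).symm.app P) (KFlatLib.isKFlat_pull U.ι hP)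

variable [DCoh.HasLTensorCx K] [DCoh.HasLTensorCx ((resCx U).obj K)]

/-- Restriction of complexes, then localisation. -/
noncomputable abbrev resFac :
    DerivedCategory.Q ⋙ DCoh.restrictD U.ι ≅ resCx U ⋙ DerivedCategory.Q :=
  (Scheme.Modules.restrictFunctor U.ι).mapDerivedCategoryFactors

section Abs

variable {C C' D D' : Type*} [Category C] [Category C'] [Category D] [Category D']
  {Q : C ⥤ D} {Q' : C' ⥤ D'} {R : D ⥤ D'} {r : C ⥤ C'} (fac : Q ⋙ R ≅ r ⋙ Q')
  {T : C ⥤ C} {T' : C' ⥤ C'} {L : D ⥤ D} {L' : D' ⥤ D'}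

/-- A counit followed by restriction. -/
def absA (c : Q ⋙ L ⟶ T ⋙ Q) : Q ⋙ L ⋙ R ⟶ T ⋙ r ⋙ Q' where
  app P := R.map (c.app P) ≫ fac.hom.app (T.obj P)
  naturality P P' g := by
    have h1 := c.naturality g
    have h2 := fac.hom.naturality (T.map g)
    simp only [Functor.comp_map] at h1 h2 ⊢
    rw [← Functor.map_comp_assoc, h1, Functor.map_comp_assoc, h2, Category.assoc]

/-- Restriction followed by a counit. -/
def absB (c' : Q' ⋙ L' ⟶ T' ⋙ Q') (tr : T ⋙ r ≅ r ⋙ T') : Q ⋙ R ⋙ L' ⟶ T ⋙ r ⋙ Q' where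
  app P := L'.map (fac.hom.app P) ≫ c'.app (r.obj P) ≫ Q'.map (tr.inv.app P)
  naturality P P' g := by
    have h1 := c'.naturality (r.map g)
    have h2 := fac.hom.naturality g
    have h3 := tr.inv.naturality g
    simp only [Functor.comp_map] at h1 h2 h3 ⊢
    rw [← Functor.map_comp_assoc, h2, Functor.map_comp_assoc, reassoc_of% h1, ← Functor.map_comp, h3,
      Functor.map_comp, Category.assoc, Category.assoc]

theorem isIso_absA (c : Q ⋙ L ⟶ T ⋙ Q) (P : C) [IsIso (c.app P)] : IsIso ((absA fac c).app P) :=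
  inferInstanceAs (IsIso (R.map (c.app P) ≫ fac.hom.app (T.obj P)))

theorem isIso_absB (c' : Q' ⋙ L' ⟶ T' ⋙ Q') (tr : T ⋙ r ≅ r ⋙ T') (P : C)
    [IsIso (c'.app (r.obj P))] : IsIso ((absB fac c' tr).app P) :=
  inferInstanceAs (IsIso (L'.map (fac.hom.app P) ≫ c'.app (r.obj P) ≫ Q'.map (tr.inv.app P)))

end Abs

/-- The counit of `(- ⊗^L K)|_U`. -/
noncomputable def cA : DerivedCategory.Q ⋙ DCoh.LTensorCx K ⋙ DCoh.restrictD U.ι ⟶
    TensorAssocLib.tR K ⋙ resCx U ⋙ DerivedCategory.Q :=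
  absA (resFac U) (TensorAssocLib.cnt K)

/-- The counit of `(-)|_U ⊗^L K|_U`. -/
noncomputable def cB : DerivedCategory.Q ⋙ DCoh.restrictD U.ι ⋙ DCoh.LTensorCx ((resCx U).obj K) ⟶
    TensorAssocLib.tR K ⋙ resCx U ⋙ DerivedCategory.Q :=
  absB (resFac U) (TensorAssocLib.cnt ((resCx U).obj K)) (resTRIso U K)

theorem isIso_cA {P : CochainComplex X.Modules ℤ} (hP : DCoh.IsKFlat P) : IsIso ((cA U K).app P) :=
  haveI := TensorAssocLib.isIso_cnt_of_kFlat K P hP
  isIso_absA (resFac U) (TensorAssocLib.cnt K) P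

theorem isIso_cB {P : CochainComplex X.Modules ℤ} (hP : DCoh.IsKFlat P) : IsIso ((cB U K).app P) :=
  haveI := TensorAssocLib.isIso_cnt_of_kFlat ((resCx U).obj K) _ (isKFlat_resCx U hP)
  isIso_absB (resFac U) (TensorAssocLib.cnt ((resCx U).obj K)) (resTRIso U K) P

/-- `(F ⊗^L K)|_U ≅ F|_U ⊗^L K|_U`, naturally. -/
theorem nonempty_restrict_LTensor :
    Nonempty (DCoh.restrictD U.ι ⋙ DCoh.LTensorCx ((resCx U).obj K) ≅
      DCoh.LTensorCx K ⋙ DCoh.restrictD U.ι) := by
  let W := HomologicalComplex.quasiIso X.Modules (ComplexShape.up ℤ)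
  let Φ : ∀ (G : DCoh.D X ⥤ DCoh.D (U : Scheme.{u}))
      (c : DerivedCategory.Q ⋙ G ⟶ TensorAssocLib.tR K ⋙ resCx U ⋙ DerivedCategory.Q)
      (_ : ∀ {P : CochainComplex X.Modules ℤ}, DCoh.IsKFlat P → IsIso (c.app P)),
      DerivedCategory.Q ⋙ G ≅
        KFlatLib.resP X ⋙ TensorAssocLib.tR K ⋙ resCx U ⋙ DerivedCategory.Q := fun G c hc =>
    NatIso.ofComponents (fun P =>
        haveI : QuasiIso ((KFlatLib.resψ X).app P) := KFlatLib.quasiIso_resψ P
        haveI := hc (KFlatLib.good_resP P).1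
        haveI : IsIso (DerivedCategory.Q.map ((KFlatLib.resψ X).app P)) := inferInstance
        (asIso (G.map (DerivedCategory.Q.map ((KFlatLib.resψ X).app P)))).symm ≪≫
          asIso (c.app ((KFlatLib.resP X).obj P)))
      (fun {P Q} g => by
        haveI : QuasiIso ((KFlatLib.resψ X).app P) := KFlatLib.quasiIso_resψ P
        haveI : QuasiIso ((KFlatLib.resψ X).app Q) := KFlatLib.quasiIso_resψ Q
        have h1 := c.naturality ((KFlatLib.resP X).map g)
        have h2 : G.map (DerivedCategory.Q.map ((KFlatLib.resP X).map g)) ≫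
            G.map (DerivedCategory.Q.map ((KFlatLib.resψ X).app Q)) =
            G.map (DerivedCategory.Q.map ((KFlatLib.resψ X).app P)) ≫ G.map (DerivedCategory.Q.map g) := by
          rw [← Functor.map_comp, ← Functor.map_comp, ← Functor.map_comp, ← Functor.map_comp]
          exact congrArg (fun m => G.map (DerivedCategory.Q.map m)) ((KFlatLib.resψ X).naturality g)
        simp only [Iso.trans_hom, Iso.symm_hom, asIso_inv, asIso_hom, Functor.comp_map] at h1 h2 ⊢
        rw [Category.assoc, ← h1, eq_comm, IsIso.inv_comp_eq, ← reassoc_of% h2, IsIso.hom_inv_id_assoc])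
  let e := Φ _ (cB U K) (fun hP => isIso_cB U K hP) ≪≫ (Φ _ (cA U K) (fun hP => isIso_cA U K hP)).symm
  exact ⟨((Localization.whiskeringLeftFunctor' DerivedCategory.Q W _).preimageIso e :)⟩

/-- Outside `U`, the cohomology of `j_!F ⊗^L K` vanishes. -/
theorem support_HD_LTensor_extZeroD [PreservesFiniteLimits (CxOX.extZero U.ι)]
    (F : DCoh.D (U : Scheme.{u})) (i : ℤ) :
    CohB1.support (DCoh.HD ((DCoh.LTensorCx K).obj ((CxOX.extZeroD U.ι).obj F)) i) ⊆ (U : Set X) := by
  intro x hx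
  by_contra hU
  obtain ⟨P, hP, ⟨eP⟩⟩ := KFlatLib.exists_good_rep ((CxOX.extZeroD U.ι).obj F)
  obtain ⟨e⟩ := KFlatLib.exists_lTensorCxObjIso K P hP.1
  have hac : ∀ n, IsZero (((KFlatLib.stalkCx X x).obj P).homology n) := fun n => by
    have h1 : Subsingleton ((DCoh.HD ((CxOX.extZeroD U.ι).obj F) n).presheaf.stalk x) := by
      by_contra h
      obtain ⟨w, -, hw⟩ := support_HD_extZeroD U F n h
      exact hU (hw ▸ w.2)
    have h2 : Subsingleton ((P.homology n).presheaf.stalk x) :=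
      (subsingleton_stalk_of_iso ((DerivedCategory.homologyFunctor _ n).mapIso eP.symm ≪≫
        (DerivedCategory.homologyFunctorFactors X.Modules n).app P) x).1 h1
    haveI : Subsingleton ((DerSch.stalkFunctor X x).obj (P.homology n)) := h2
    exact (ModuleCat.isZero_of_subsingleton _).of_iso (KFlatLib.stalkHomologyIso P x n)
  haveI : QuasiIso ((KFlatLib.resψ X).app K) := KFlatLib.quasiIso_resψ K
  have hres := (KFlatLib.quasiIso_iff_stalks ((KFlatLib.resψ X).app K)).1 inferInstance x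
  haveI := hres
  haveI hq := KFlatLib.quasiIso_tMap_left (KFlatLib.stalks_isKFlat hP.1 x)
    ((KFlatLib.stalkCx X x).map ((KFlatLib.resψ X).app K))
  have h0 := KFlatLib.stalks_isKFlat (KFlatLib.good_resP K).1 x _ hac i
  have h3 : IsZero (((KFlatLib.stalkCx X x).obj (((DCoh.tensorCx (X := X)).obj P).obj K)).homology i) := by
    haveI : IsIso (HomologicalComplex.homologyMap (KFlatLib.tMap (𝟙 ((KFlatLib.stalkCx X x).obj P))
        ((KFlatLib.stalkCx X x).map ((KFlatLib.resψ X).app K))) i) :=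
      (quasiIsoAt_iff_isIso_homologyMap _ _).mp inferInstance
    exact (h0.of_iso (asIso (HomologicalComplex.homologyMap (KFlatLib.tMap (𝟙 ((KFlatLib.stalkCx X x).obj P))
        ((KFlatLib.stalkCx X x).map ((KFlatLib.resψ X).app K))) i)).symm).of_iso
      ((HomologicalComplex.homologyFunctor _ _ i).mapIso (KFlatLib.stalkTensorCxIso x P K)).symm
  apply hx
  refine (subsingleton_stalk_of_iso ((DerivedCategory.homologyFunctor X.Modules i).mapIso
    ((DCoh.LTensorCx K).mapIso eP.symm ≪≫ e) ≪≫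
      (DerivedCategory.homologyFunctorFactors X.Modules i).app _) x).2 ?_
  exact ModuleCat.subsingleton_of_isZero (h3.of_iso (KFlatLib.stalkHomologyIso _ x i).symm)

theorem isIso_of_isIso_restrictD_of_support {P Q : DCoh.D X} (φ : P ⟶ Q)
    [IsIso ((DCoh.restrictD U.ι).map φ)]
    (hP : ∀ i : ℤ, CohB1.support (DCoh.HD P i) ⊆ (U : Set X))
    (hQ : ∀ i : ℤ, CohB1.support (DCoh.HD Q i) ⊆ (U : Set X)) : IsIso φ := by
  have h := isIso_restrictD_of_support (⊤ : X.Opens) U U inf_le_right φ hP hQ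
  rw [DerivedCategory.isIso_iff]
  intro i
  haveI := h
  haveI := isIso_restrict_HD (⊤ : X.Opens).ι φ i
  refine FiltSectLib.isIso_of_stalks _ fun x => ?_
  exact isIso_stalk_of_restrict (⊤ : X.Opens).ι ((DerivedCategory.homologyFunctor X.Modules i).map φ)
    ⟨x, trivial⟩

/-- Internal homs commute with restriction. -/
theorem nonempty_restrict_RSheafHom [PreservesFiniteLimits (CxOX.extZero U.ι)]
    [DCoh.HasRSheafHom K] [DCoh.HasRSheafHom ((resCx U).obj K)] :
    Nonempty (DCoh.RSheafHom K ⋙ DCoh.restrictD U.ι ≅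
      DCoh.restrictD U.ι ⋙ DCoh.RSheafHom ((resCx U).obj K)) := by
  obtain ⟨ω⟩ := nonempty_restrict_LTensor U K
  let J := CxOX.extZeroD U.ι
  let R := DCoh.restrictD U.ι
  let L := DCoh.LTensorCx K
  let L' := DCoh.LTensorCx ((resCx U).obj K)
  let θ : L' ⋙ J ⟶ J ⋙ L :=
    { app := fun F => J.map (L'.map ((adjD U).unit.app F) ≫ ω.hom.app (J.obj F)) ≫
        (adjD U).counit.app (L.obj (J.obj F))
      naturality := fun F G f => by
        have h1 : f ≫ (adjD U).unit.app G = (adjD U).unit.app F ≫ R.map (J.map f) :=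
          (adjD U).unit.naturality f
        have h2 : L'.map (R.map (J.map f)) ≫ ω.hom.app (J.obj G) =
            ω.hom.app (J.obj F) ≫ R.map (L.map (J.map f)) := ω.hom.naturality (J.map f)
        have h3 : J.map (R.map (L.map (J.map f))) ≫ (adjD U).counit.app (L.obj (J.obj G)) =
            (adjD U).counit.app (L.obj (J.obj F)) ≫ L.map (J.map f) :=
          (adjD U).counit.naturality (L.map (J.map f))
        change J.map (L'.map f) ≫ J.map _ ≫ _ = (J.map _ ≫ _) ≫ L.map (J.map f)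
        rw [Category.assoc, ← h3, ← Functor.map_comp_assoc, ← Functor.map_comp_assoc]
        refine congrArg (fun m => m ≫ (adjD U).counit.app (L.obj (J.obj G))) ?_ |>.trans (Category.assoc _ _ _)
        rw [← Functor.map_comp]
        refine congrArg J.map ?_
        calc L'.map (f ≫ (adjD U).unit.app G) ≫ ω.hom.app (J.obj G)
            = L'.map ((adjD U).unit.app F ≫ R.map (J.map f)) ≫ ω.hom.app (J.obj G) := by rw [h1]
          _ = L'.map ((adjD U).unit.app F) ≫ L'.map (R.map (J.map f)) ≫ ω.hom.app (J.obj G) := by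
              rw [Functor.map_comp, Category.assoc]
          _ = L'.map ((adjD U).unit.app F) ≫ ω.hom.app (J.obj F) ≫ R.map (L.map (J.map f)) := by rw [h2]
          _ = _ := (Category.assoc _ _ _).symm }
  haveI : ∀ F, IsIso (θ.app F) := fun F => by
    haveI := isIso_adjD_unit U F
    haveI := isIso_adjD_unit U (L'.obj F)
    haveI : IsIso (R.map (θ.app F)) := by
      have hh : (adjD U).unit.app (L'.obj F) ≫ R.map (θ.app F) =
          L'.map ((adjD U).unit.app F) ≫ ω.hom.app (J.obj F) := by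
        refine Eq.trans ((adjD U).homEquiv_unit _ _ _).symm ?_
        exact ((adjD U).homEquiv _ _).apply_eq_iff_eq_symm_apply.2 ((adjD U).homEquiv_counit _ _ _).symm
      exact @IsIso.of_isIso_comp_left _ _ _ _ _ ((adjD U).unit.app (L'.obj F)) _ inferInstance
        (by rw [hh]; infer_instance)
    refine isIso_of_isIso_restrictD_of_support U (θ.app F) (fun i => ?_)
      (fun i => support_HD_LTensor_extZeroD U K F i)
    exact (support_HD_extZeroD U _ i).trans (by rintro _ ⟨w, -, rfl⟩; exact w.2)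
  haveI := NatIso.isIso_of_isIso_app θ
  let a₁ : J ⋙ L ⊣ DCoh.RSheafHom K ⋙ R := (adjD U).comp (DCoh.RSheafHomAdj K)
  let a₂ : L' ⋙ J ⊣ R ⋙ DCoh.RSheafHom ((resCx U).obj K) :=
    (DCoh.RSheafHomAdj ((resCx U).obj K)).comp (adjD U)
  exact ⟨(a₁.ofNatIsoLeft (asIso θ).symm).rightAdjointUniq a₂⟩

end Groth.Agent.DCohRestrLib
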