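import Mathlib
import Groth.Agent.DerLib.KInjDerived

set_option autoImplicit false
set_option backward.isDefEq.respectTransparency false
set_option backward.isDefEq.respectTransparency.types false

universe w'' w' w v'' v' v u'' u' u

/-!
# Composition of right derived functors through K-injective complexes
-/

open CategoryTheory CategoryTheory.Limits
open Groth.Agent.DerLib

namespace Groth.Agent.DCohRestrLib

variable {A : Type u} [Category.{v} A] [Abelian A] [HasDerivedCategory.{w} A]
  {B : Type u'} [Category.{v'} B] [Abelian B] [HasDerivedCategory.{w'} B]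

omit [HasDerivedCategory.{w} A] [HasDerivedCategory.{w'} B] in
/-- An exact functor preserves acyclic complexes. -/
theorem acyclic_map (E : A ⥤ B) [E.Additive] [PreservesFiniteLimits E] [PreservesFiniteColimits E]
    {K : CochainComplex A ℤ} (hK : K.Acyclic) :
    ((E.mapHomologicalComplex (ComplexShape.up ℤ)).obj K).Acyclic := fun n => by
  rw [HomologicalComplex.exactAt_iff_isZero_homology]
  have h := (HomologicalComplex.exactAt_iff_isZero_homology K n).1 (hK n)
  exact (E.map_isZero h).of_iso ((K.sc n).mapHomologyIso E)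

omit [HasDerivedCategory.{w} A] [HasDerivedCategory.{w'} B] in
/-- A right adjoint of an exact functor preserves K-injective complexes. -/
theorem isKInjective_map {G : B ⥤ A} {R : A ⥤ B} (adj : G ⊣ R) [G.Additive] [R.Additive]
    [PreservesFiniteLimits G] [PreservesFiniteColimits G] (I : CochainComplex A ℤ) [I.IsKInjective] :
    CochainComplex.IsKInjective ((R.mapHomologicalComplex (ComplexShape.up ℤ)).obj I) := by
  refine ⟨fun {K} f hK => ⟨HomotopyCategory.homotopyOfEq _ _ ?_⟩⟩
  let aH := KInjDerived.mapHomotopyCategoryAdj adj (ComplexShape.up ℤ)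
  rw [Functor.map_zero]
  apply (aH.homEquiv _ _).symm.injective
  obtain ⟨g, hg⟩ := (HomotopyCategory.quotient A (ComplexShape.up ℤ)).map_surjective
    ((aH.homEquiv _ _).symm ((HomotopyCategory.quotient B (ComplexShape.up ℤ)).map f))
  have h0 : (HomotopyCategory.quotient A (ComplexShape.up ℤ)).map g = 0 :=
    (HomotopyCategory.eq_of_homotopy _ _ (CochainComplex.IsKInjective.homotopyZero g (acyclic_map G hK))).trans
      (Functor.map_zero _ _ _)
  refine hg.symm.trans (h0.trans (Eq.symm ?_))
  rw [Adjunction.homEquiv_counit, Functor.map_zero]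
  exact zero_comp

section Comp

variable {C : Type u''} [Category.{v''} C] [Abelian C] [HasDerivedCategory.{w''} C]
  {F : A ⥤ B} {G : B ⥤ C} {H : A ⥤ C} [F.Additive] [G.Additive] [H.Additive] (e : F ⋙ G ≅ H)
  (RF : DerivedCategory A ⥤ DerivedCategory B)
  (α : F.mapHomotopyCategory (ComplexShape.up ℤ) ⋙ DerivedCategory.Qh ⟶ DerivedCategory.Qh ⋙ RF)
  [RF.IsRightDerivedFunctor α (HomotopyCategory.quasiIso A (ComplexShape.up ℤ))]
  (RG : DerivedCategory B ⥤ DerivedCategory C)
  (β : G.mapHomotopyCategory (ComplexShape.up ℤ) ⋙ DerivedCategory.Qh ⟶ DerivedCategory.Qh ⋙ RG)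
  (RH : DerivedCategory A ⥤ DerivedCategory C)
  (γ : H.mapHomotopyCategory (ComplexShape.up ℤ) ⋙ DerivedCategory.Qh ⟶ DerivedCategory.Qh ⋙ RH)
  [RH.IsRightDerivedFunctor γ (HomotopyCategory.quasiIso A (ComplexShape.up ℤ))]

include e α β γ in
/-- `RG ∘ RF ≅ R(G ∘ F)` when `F` sends K-injective complexes to acyclic complexes for `G`. -/
theorem nonempty_compIso (hA : KInjDerived.EnoughKInj A)
    (hacyc : ∀ (I : CochainComplex A ℤ) [I.IsKInjective],
      IsIso (β.app ((HomotopyCategory.quotient B (ComplexShape.up ℤ)).obj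
        ((F.mapHomologicalComplex (ComplexShape.up ℤ)).obj I)))) :
    Nonempty (RF ⋙ RG ≅ RH) := by
  let δ : H.mapHomotopyCategory (ComplexShape.up ℤ) ⋙ DerivedCategory.Qh ⟶
      DerivedCategory.Qh ⋙ (RF ⋙ RG) :=
    { app := fun X => DerivedCategory.Qh.map
          ((Functor.mapHomotopyCategoryCompIso e (ComplexShape.up ℤ)).inv.app X) ≫
        β.app ((F.mapHomotopyCategory (ComplexShape.up ℤ)).obj X) ≫ RG.map (α.app X)
      naturality := fun X Y f => by
        have h1 := α.naturality f
        have h2 := β.naturality ((F.mapHomotopyCategory (ComplexShape.up ℤ)).map f)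
        have h3 := (Functor.mapHomotopyCategoryCompIso e (ComplexShape.up ℤ)).inv.naturality f
        simp only [Functor.comp_map] at h1 h2 h3 ⊢
        rw [← Functor.map_comp_assoc, h3, Functor.map_comp_assoc, reassoc_of% h2, Category.assoc,
          Category.assoc, ← Functor.map_comp, ← Functor.map_comp, h1] }
  haveI : (RF ⋙ RG).IsRightDerivedFunctor δ (HomotopyCategory.quasiIso A (ComplexShape.up ℤ)) := by
    refine KInjDerived.isRightDerivedFunctor_of_isIso _ _ hA fun I hI => ?_
    haveI := KInjDerived.isIso_app RF α hA I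
    haveI : IsIso (β.app ((F.mapHomotopyCategory (ComplexShape.up ℤ)).obj
        ((HomotopyCategory.quotient A (ComplexShape.up ℤ)).obj I))) := hacyc I
    exact (inferInstance : IsIso (DerivedCategory.Qh.map
        ((Functor.mapHomotopyCategoryCompIso e (ComplexShape.up ℤ)).inv.app
          ((HomotopyCategory.quotient A (ComplexShape.up ℤ)).obj I)) ≫
      β.app ((F.mapHomotopyCategory (ComplexShape.up ℤ)).obj
        ((HomotopyCategory.quotient A (ComplexShape.up ℤ)).obj I)) ≫
      RG.map (α.app ((HomotopyCategory.quotient A (ComplexShape.up ℤ)).obj I))))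
  exact ⟨Functor.rightDerivedUnique (RF ⋙ RG) RH δ γ (HomotopyCategory.quasiIso A (ComplexShape.up ℤ))⟩

end Comp

/-- The unit of the derived functor of an exact functor. -/
theorem isRightDerived_exact (E : A ⥤ B) [E.Additive] [PreservesFiniteLimits E] [PreservesFiniteColimits E] :
    E.mapDerivedCategory.IsRightDerivedFunctor E.mapDerivedCategoryFactorsh.inv
      (HomotopyCategory.quasiIso A (ComplexShape.up ℤ)) :=
  Functor.isRightDerivedFunctor_of_inverts _ E.mapDerivedCategory E.mapDerivedCategoryFactorsh

/-- The unit is an isomorphism at `Y` as soon as a quasi-isomorphism `Y ⟶ J` to a K-injective complex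
becomes a quasi-isomorphism after applying the functor. -/
theorem isIso_unit_of_quasiIso {G : B ⥤ A} [G.Additive] (hB : KInjDerived.EnoughKInj B)
    (RG : DerivedCategory B ⥤ DerivedCategory A)
    (β : G.mapHomotopyCategory (ComplexShape.up ℤ) ⋙ DerivedCategory.Qh ⟶ DerivedCategory.Qh ⋙ RG)
    [RG.IsRightDerivedFunctor β (HomotopyCategory.quasiIso B (ComplexShape.up ℤ))]
    {Y J : CochainComplex B ℤ} (s : Y ⟶ J) [J.IsKInjective] [QuasiIso s]
    [QuasiIso ((G.mapHomologicalComplex (ComplexShape.up ℤ)).map s)] :
    IsIso (β.app ((HomotopyCategory.quotient B (ComplexShape.up ℤ)).obj Y)) := by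
  let q := HomotopyCategory.quotient B (ComplexShape.up ℤ)
  have h := β.naturality (q.map s)
  haveI := KInjDerived.isIso_app RG β hB J
  haveI : IsIso (DerivedCategory.Qh.map (q.map s)) :=
    Localization.inverts DerivedCategory.Qh (HomotopyCategory.quasiIso _ _) _
      ((HomotopyCategory.quotient_map_mem_quasiIso_iff _).2 ((HomologicalComplex.mem_quasiIso_iff _).2 ‹_›))
  haveI : IsIso (DerivedCategory.Qh.map ((G.mapHomotopyCategory (ComplexShape.up ℤ)).map (q.map s))) :=
    Localization.inverts DerivedCategory.Qh (HomotopyCategory.quasiIso _ _) _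
      ((HomotopyCategory.quotient_map_mem_quasiIso_iff _).2 ((HomologicalComplex.mem_quasiIso_iff _).2 ‹_›))
  simp only [Functor.comp_map] at h
  haveI : IsIso (β.app (q.obj Y) ≫ RG.map (DerivedCategory.Qh.map (q.map s))) := by
    rw [← h]
    infer_instance
  exact IsIso.of_isIso_comp_right (β.app (q.obj Y)) (RG.map (DerivedCategory.Qh.map (q.map s)))

end Groth.Agent.DCohRestrLib
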