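import Mathlib
import Groth.Agent.DerLib.KInjDerived

set_option autoImplicit false
set_option backward.isDefEq.respectTransparency false
set_option backward.isDefEq.respectTransparency.types false

universe w' w v' v u' u

/-!
# Direct images of K-injective complexes are acyclic for sections
-/

open CategoryTheory CategoryTheory.Limits Pretriangulated

namespace Groth.Agent.DCohRestrLib

variable {A : Type u} [Category.{v} A] [Abelian A] [HasDerivedCategory.{w} A]
  {B : Type u'} [Category.{v'} B] [Abelian B] [HasDerivedCategory.{w'} B]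
  {L : B ⥤ A} {R : A ⥤ B} (adj : L ⊣ R) [L.Additive] [R.Additive]

include adj in
/-- `R` of a K-injective complex behaves as a K-injective complex against good complexes. -/
theorem bijective_Qh_map (good : CochainComplex B ℤ → Prop)
    (hres : ∀ K : CochainComplex B ℤ, ∃ (P : CochainComplex B ℤ) (t : P ⟶ K), good P ∧ QuasiIso t)
    (hpull : ∀ {P Q : CochainComplex B ℤ} (g : P ⟶ Q), good P → good Q → QuasiIso g →
      QuasiIso ((L.mapHomologicalComplex (ComplexShape.up ℤ)).map g))
    {P : CochainComplex B ℤ} (hP : good P) (I : CochainComplex A ℤ) [I.IsKInjective] :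
    Function.Bijective (DerivedCategory.Qh.map :
      ((HomotopyCategory.quotient B (ComplexShape.up ℤ)).obj P ⟶
        (HomotopyCategory.quotient B (ComplexShape.up ℤ)).obj
          ((R.mapHomologicalComplex (ComplexShape.up ℤ)).obj I)) → _) := by
  let q := HomotopyCategory.quotient B (ComplexShape.up ℤ)
  let W := (HomotopyCategory.subcategoryAcyclic B).trW
  let G := L.mapHomotopyCategory (ComplexShape.up ℤ)
  let aH := Groth.Agent.DerLib.KInjDerived.mapHomotopyCategoryAdj adj (ComplexShape.up ℤ)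
  let qA := HomotopyCategory.quotient A (ComplexShape.up ℤ)
  have refine₀ : ∀ {Z : HomotopyCategory B (ComplexShape.up ℤ)} (s : Z ⟶ q.obj P), W s →
      ∃ (P' : CochainComplex B ℤ) (w : q.obj P' ⟶ Z),
        W (w ≫ s) ∧ IsIso (DerivedCategory.Qh.map (G.map (w ≫ s))) := by
    intro Z s hs
    obtain ⟨P', t, hP', ht⟩ := hres Z.as
    obtain ⟨s', hs'⟩ := q.map_surjective (q.map t ≫ s)
    refine ⟨P', q.map t, ?_⟩
    have hW : W (q.map t ≫ s) := by
      refine MorphismProperty.comp_mem _ _ _ ?_ hs
      rw [show W = HomotopyCategory.quasiIso _ _ from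
        (HomotopyCategory.quasiIso_eq_trW_subcategoryAcyclic _).symm,
        HomotopyCategory.quotient_map_mem_quasiIso_iff]
      exact (HomologicalComplex.mem_quasiIso_iff _).2 ht
    refine ⟨hW, ?_⟩
    have hq : QuasiIso s' := by
      rw [← HomologicalComplex.mem_quasiIso_iff, ← HomotopyCategory.quotient_map_mem_quasiIso_iff,
        HomotopyCategory.quasiIso_eq_trW_subcategoryAcyclic]
      rwa [hs']
    rw [← hs']
    exact Localization.inverts DerivedCategory.Qh (HomotopyCategory.quasiIso _ _) _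
      ((HomotopyCategory.quotient_map_mem_quasiIso_iff _).2
        ((HomologicalComplex.mem_quasiIso_iff _).2 (hpull s' hP' hP hq)))
  have hbij : ∀ X : HomotopyCategory A (ComplexShape.up ℤ),
      Function.Bijective (DerivedCategory.Qh.map : (X ⟶ qA.obj I) → _) := fun X =>
    CochainComplex.IsKInjective.Qh_map_bijective X I
  constructor
  · intro a b hab
    obtain ⟨Z, s, hs, hsab⟩ := (MorphismProperty.map_eq_iff_precomp DerivedCategory.Qh W a b).1 hab
    obtain ⟨P', w, -, hiso⟩ := refine₀ s hs
    apply (aH.homEquiv _ _).symm.injective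
    apply (hbij _).1
    rw [← cancel_epi (DerivedCategory.Qh.map (G.map (w ≫ s))), ← Functor.map_comp, ← Functor.map_comp]
    congr 1
    erw [← Adjunction.homEquiv_naturality_left_symm, ← Adjunction.homEquiv_naturality_left_symm]
    rw [Category.assoc, hsab, ← Category.assoc]
  · intro u
    obtain ⟨φ, hφ⟩ := Localization.exists_rightFraction DerivedCategory.Qh W u
    obtain ⟨P', w, hW, hiso⟩ := refine₀ φ.s φ.hs
    let gb := (aH.homEquiv _ _).symm (w ≫ φ.f)
    obtain ⟨hb, hhb⟩ := (hbij _).2 (inv (DerivedCategory.Qh.map (G.map (w ≫ φ.s))) ≫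
      DerivedCategory.Qh.map gb)
    refine ⟨aH.homEquiv _ _ hb, ?_⟩
    have h1 : G.map (w ≫ φ.s) ≫ hb = gb := (hbij _).1 (by
      rw [Functor.map_comp, hhb, IsIso.hom_inv_id_assoc])
    have h2 : (w ≫ φ.s) ≫ aH.homEquiv _ _ hb = w ≫ φ.f := by
      rw [← Adjunction.homEquiv_naturality_left]
      exact (congrArg _ h1).trans (Equiv.apply_symm_apply _ _)
    haveI : IsIso (DerivedCategory.Qh.map (w ≫ φ.s)) := Localization.inverts DerivedCategory.Qh W _ hW
    rw [← cancel_epi (DerivedCategory.Qh.map (w ≫ φ.s))]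
    refine ((Functor.map_comp _ _ _).symm.trans (congrArg DerivedCategory.Qh.map h2)).trans ?_
    rw [Functor.map_comp, Functor.map_comp, Category.assoc, hφ,
      MorphismProperty.RightFraction.map_s_comp_map]

omit [Abelian A] [HasDerivedCategory.{w} A] in
/-- A complex on which `single` of a representing object has no maps up to homotopy has acyclic
sections. -/
theorem acyclic_of_hom_single_eq_zero {Γ : B ⥤ AddCommGrpCat.{v'}} [Γ.Additive] (O : B)
    (e : ∀ M : B, (O ⟶ M) ≃ Γ.obj M)
    (he : ∀ {M N : B} (a : O ⟶ M) (p : M ⟶ N), e N (a ≫ p) = Γ.map p (e M a))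
    (C : CochainComplex B ℤ)
    (h : ∀ (n : ℤ) (φ : (HomotopyCategory.quotient B (ComplexShape.up ℤ)).obj
        ((HomologicalComplex.single B (ComplexShape.up ℤ) n).obj O) ⟶
        (HomotopyCategory.quotient B (ComplexShape.up ℤ)).obj C), φ = 0) :
    ((Γ.mapHomologicalComplex (ComplexShape.up ℤ)).obj C).Acyclic := by
  have he0 : ∀ M : B, e M 0 = 0 := fun M => by
    have h1 := he (0 : O ⟶ M) (0 : M ⟶ M)
    rw [comp_zero, Γ.map_zero] at h1
    exact h1
  intro n
  rw [HomologicalComplex.exactAt_iff' _ (n - 1) n (n + 1) (by simp) (by simp),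
    ShortComplex.ab_exact_iff]
  intro z hz
  change Γ.obj (C.X n) at z
  change Γ.map (C.d n (n + 1)) z = 0 at hz
  let a : O ⟶ C.X n := (e _).symm z
  have ha : a ≫ C.d n (n + 1) = 0 := (e _).injective (by
    rw [he, he0]
    simp only [a, Equiv.apply_symm_apply]
    exact hz)
  let φ : (HomologicalComplex.single B (ComplexShape.up ℤ) n).obj O ⟶ C :=
    HomologicalComplex.mkHomFromSingle a (fun j hj => by
      obtain rfl : j = n + 1 := hj.symm
      exact ha)
  let H := HomotopyCategory.homotopyOfEq φ 0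
    ((h n _).trans ((HomotopyCategory.quotient B (ComplexShape.up ℤ)).map_zero _ _).symm)
  let w : O ⟶ C.X (n - 1) :=
    (HomologicalComplex.singleObjXSelf (ComplexShape.up ℤ) n O).inv ≫ H.hom n (n - 1)
  refine ⟨e _ w, ?_⟩
  change Γ.map (C.d (n - 1) n) (e _ w) = z
  rw [← he]
  have hc := H.comm n
  rw [dNext_eq H.hom (show (ComplexShape.up ℤ).Rel n (n + 1) from rfl),
    prevD_eq H.hom (show (ComplexShape.up ℤ).Rel (n - 1) n by simp)] at hc
  simp only [HomologicalComplex.single_obj_d, zero_comp, zero_add, HomologicalComplex.zero_f,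
    add_zero] at hc
  have hw : w ≫ C.d (n - 1) n = a := by
    simp only [w, Category.assoc]
    rw [← hc]
    simp [φ]
  rw [hw]
  exact Equiv.apply_symm_apply _ _

include adj in
/-- Sections of a quasi-isomorphism `R I ⟶ J` into a K-injective complex form a quasi-isomorphism. -/
theorem quasiIso_sections (good : CochainComplex B ℤ → Prop)
    (hres : ∀ K : CochainComplex B ℤ, ∃ (P : CochainComplex B ℤ) (t : P ⟶ K), good P ∧ QuasiIso t)
    (hpull : ∀ {P Q : CochainComplex B ℤ} (g : P ⟶ Q), good P → good Q → QuasiIso g →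
      QuasiIso ((L.mapHomologicalComplex (ComplexShape.up ℤ)).map g))
    {Γ : B ⥤ AddCommGrpCat.{v'}} [Γ.Additive] (O : B) (e : ∀ M : B, (O ⟶ M) ≃ Γ.obj M)
    (he : ∀ {M N : B} (a : O ⟶ M) (p : M ⟶ N), e N (a ≫ p) = Γ.map p (e M a))
    (hgood : ∀ n k : ℤ, good (((HomologicalComplex.single B (ComplexShape.up ℤ) n).obj O)⟦k⟧))
    (hgood₀ : ∀ n : ℤ, good ((HomologicalComplex.single B (ComplexShape.up ℤ) n).obj O))
    (I : CochainComplex A ℤ) [I.IsKInjective] {J : CochainComplex B ℤ} [J.IsKInjective]
    (s : (R.mapHomologicalComplex (ComplexShape.up ℤ)).obj I ⟶ J) [QuasiIso s] :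
    QuasiIso ((Γ.mapHomologicalComplex (ComplexShape.up ℤ)).map s) := by
  let q := HomotopyCategory.quotient B (ComplexShape.up ℤ)
  haveI : IsIso (DerivedCategory.Qh.map (q.map s)) :=
    Localization.inverts DerivedCategory.Qh (HomotopyCategory.quasiIso _ _) _
      ((HomotopyCategory.quotient_map_mem_quasiIso_iff _).2 ((HomologicalComplex.mem_quasiIso_iff _).2 ‹_›))
  have hinj : ∀ {P : CochainComplex B ℤ}, good P → ∀ ψ : q.obj P ⟶ q.obj _, ψ ≫ q.map s = 0 → ψ = 0 :=
    fun {P} hP ψ hψ => (bijective_Qh_map adj good hres hpull hP I).1 (by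
      rw [Functor.map_zero, ← cancel_mono (DerivedCategory.Qh.map (q.map s)), zero_comp,
        ← Functor.map_comp, hψ, Functor.map_zero])
  have hsurj : ∀ {P : CochainComplex B ℤ}, good P → ∀ χ : q.obj P ⟶ q.obj J, ∃ a, a ≫ q.map s = χ :=
    fun {P} hP χ => by
      obtain ⟨a, ha⟩ := (bijective_Qh_map adj good hres hpull hP I).2
        (DerivedCategory.Qh.map χ ≫ inv (DerivedCategory.Qh.map (q.map s)))
      exact ⟨a, (CochainComplex.IsKInjective.Qh_map_bijective _ J).1 (by
        rw [Functor.map_comp, ha, Category.assoc, IsIso.inv_hom_id, Category.comp_id])⟩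
  have hzero : ∀ (n : ℤ) (φ : q.obj ((HomologicalComplex.single B (ComplexShape.up ℤ) n).obj O) ⟶
      q.obj (CochainComplex.mappingCone s)), φ = 0 := by
    intro n φ
    have hT : CochainComplex.mappingCone.triangleh s ∈ distinguishedTriangles :=
      HomotopyCategory.mappingCone_triangleh_distinguished s
    let T := CochainComplex.mappingCone.triangleh s
    let φ' : q.obj ((HomologicalComplex.single B (ComplexShape.up ℤ) n).obj O) ⟶ T.obj₃ := φ
    have h1 : φ' ≫ T.mor₃ = 0 := by
      have h2 : (φ' ≫ T.mor₃) ≫ (q.map s)⟦(1 : ℤ)⟧' = 0 := by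
        rw [Category.assoc]
        exact (congrArg (φ' ≫ ·) (comp_distTriang_mor_zero₃₁ T hT)).trans comp_zero
      apply (shiftFunctor (HomotopyCategory B (ComplexShape.up ℤ)) (-1 : ℤ)).map_injective
      let u := (shiftFunctorCompIsoId (HomotopyCategory B (ComplexShape.up ℤ)) (1 : ℤ) (-1)
        (by simp)).hom
      have h3 : (φ' ≫ T.mor₃)⟦(-1 : ℤ)⟧' ≫ u.app T.obj₁ = 0 := by
        rw [← cancel_epi ((q.commShiftIso (-1 : ℤ)).hom.app _), comp_zero]
        refine hinj (hgood n (-1)) _ ?_
        refine (Category.assoc _ _ _).trans ?_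
        have h4 : ((φ' ≫ T.mor₃)⟦(-1 : ℤ)⟧' ≫ u.app T.obj₁) ≫ q.map s = 0 := by
          refine (Category.assoc _ _ _).trans ?_
          refine (congrArg (_ ≫ ·) (u.naturality (q.map s)).symm).trans ?_
          refine (Category.assoc _ _ _).symm.trans ?_
          refine (congrArg (· ≫ u.app _) (((shiftFunctor _ (-1 : ℤ)).map_comp _ _).symm.trans
            ((congrArg _ h2).trans (Functor.map_zero _ _ _)))).trans zero_comp
        exact (congrArg (_ ≫ ·) h4).trans comp_zero
      rw [Functor.map_zero, ← cancel_mono (u.app T.obj₁), zero_comp]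
      exact h3
    obtain ⟨χ, hχ⟩ := Triangle.coyoneda_exact₃ T hT φ' h1
    obtain ⟨a, ha⟩ := hsurj (hgood₀ n) χ
    change φ' = 0
    rw [hχ, ← ha]
    exact (Category.assoc _ _ _).trans
      ((congrArg (a ≫ ·) (comp_distTriang_mor_zero₁₂ T hT)).trans comp_zero)
  have hac := acyclic_of_hom_single_eq_zero O e he _ hzero
  have hac' : (CochainComplex.mappingCone ((Γ.mapHomologicalComplex (ComplexShape.up ℤ)).map s)).Acyclic :=
    fun i => (hac i).of_iso (CochainComplex.mappingCone.mapHomologicalComplexIso s Γ)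
  rw [← HomologicalComplex.mem_quasiIso_iff, ← HomotopyCategory.quotient_map_mem_quasiIso_iff,
    HomotopyCategory.quasiIso_eq_trW_subcategoryAcyclic]
  refine ((HomotopyCategory.subcategoryAcyclic AddCommGrpCat.{v'}).trW_iff_of_distinguished _
    (HomotopyCategory.mappingCone_triangleh_distinguished
      ((Γ.mapHomologicalComplex (ComplexShape.up ℤ)).map s))).2 ?_
  exact (HomotopyCategory.quotient_obj_mem_subcategoryAcyclic_iff_acyclic _).2 hac'

end Groth.Agent.DCohRestrLib
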