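import Groth.Prelude.Def_DCoh2
import Groth.Prelude.Def_DCoh3
import Groth.Prelude.Def_CxOX
import Groth.Agent.DCohRestrLib.WeakInj
import Groth.Agent.DCohRestrLib.Comp
import Groth.Agent.DCohRestrLib.Iso
import Groth.Agent.KFlatLib.LpullAdj
import Groth.Agent.KFlatLib.PullKFlat
import Groth.Agent.KFlatLib.FreeOpen
import Groth.Agent.KFlatLib.FlatRes
import Groth.Agent.PerfCompLib.ExtZero

set_option autoImplicit false
set_option linter.style.haveILetI false
set_option backward.isDefEq.respectTransparency false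
set_option backward.isDefEq.respectTransparency.types false

universe u

/-!
# `Rf_*`, `RΓ` and restriction to opens
-/

open CategoryTheory CategoryTheory.Limits AlgebraicGeometry
open Groth.Agent.DerLib

attribute [local instance] HasDerivedCategory.standard

namespace Groth.Agent.DCohRestrLib

variable {X Y : Scheme.{u}}

instance preservesFiniteColimits_extZero (U : X.Opens) :
    PreservesFiniteColimits (CxOX.extZero U.ι) :=
  haveI : PreservesColimitsOfSize.{0, 0} (CxOX.extZero U.ι) :=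
    (CxOX.extZeroAdj U.ι).leftAdjoint_preservesColimits
  PreservesColimitsOfSize.preservesFiniteColimits _

instance additive_extZero (U : X.Opens) : (CxOX.extZero U.ι).Additive :=
  (CxOX.extZeroAdj U.ι).left_adjoint_additive

instance isKInjective_restrictCx (U : X.Opens) (I : CochainComplex X.Modules ℤ) [I.IsKInjective] :
    CochainComplex.IsKInjective
      (((Scheme.Modules.restrictFunctor U.ι).mapHomologicalComplex (ComplexShape.up ℤ)).obj I) :=
  isKInjective_map (CxOX.extZeroAdj U.ι) I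

theorem isKInjective_pushCx {W : Scheme.{u}} (j : W ⟶ X) [IsOpenImmersion j]
    [PreservesFiniteLimits (Scheme.Modules.restrictFunctor j)] (I : CochainComplex W.Modules ℤ)
    [I.IsKInjective] :
    CochainComplex.IsKInjective
      (((Scheme.Modules.pushforward j).mapHomologicalComplex (ComplexShape.up ℤ)).obj I) :=
  isKInjective_map (Scheme.Modules.restrictAdjunction j) I

/-- The unit of `Rf_*`. -/
noncomputable abbrev pushUnit (f : X ⟶ Y) [DCoh.HasRpush f] :
    DCoh.pushKh f ⟶ DerivedCategory.Qh ⋙ DCoh.Rpush f :=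
  (DCoh.pushKh f).totalRightDerivedUnit DerivedCategory.Qh (HomotopyCategory.quasiIso _ _)

/-- The unit of `RΓ`. -/
noncomputable abbrev gammaUnit (X : Scheme.{u}) [DCoh.HasRΓ X] :
    DCoh.gammaKh X ⟶ DerivedCategory.Qh ⋙ DCoh.RΓ X :=
  (DCoh.gammaKh X).totalRightDerivedUnit DerivedCategory.Qh (HomotopyCategory.quasiIso _ _)

theorem isIso_pushUnit (f : X ⟶ Y) [DCoh.HasRpush f] (I : CochainComplex X.Modules ℤ) [I.IsKInjective] :
    IsIso ((pushUnit f).app ((HomotopyCategory.quotient X.Modules (ComplexShape.up ℤ)).obj I)) :=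
  KInjDerived.isIso_app (DCoh.Rpush f) (pushUnit f) KFlatLib.enoughKInj_modules I

/-- `(Rf_* E)|_V ≅ Rg_*(E|_U)`. -/
theorem nonempty_restrictD_Rpush (f : X ⟶ Y) (V : Y.Opens) [DCoh.HasRpush f] [DCoh.HasRpush (f ∣_ V)]
    [PreservesFiniteLimits (Scheme.Modules.restrictFunctor V.ι)]
    [PreservesFiniteLimits (Scheme.Modules.restrictFunctor (f ⁻¹ᵁ V).ι)] :
    Nonempty (DCoh.Rpush f ⋙ DCoh.restrictD V.ι ≅
      DCoh.restrictD (f ⁻¹ᵁ V).ι ⋙ DCoh.Rpush (f ∣_ V)) := by
  let U := f ⁻¹ᵁ V
  let R1 := Scheme.Modules.restrictFunctor V.ι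
  let R2 := Scheme.Modules.restrictFunctor U.ι
  haveI := isRightDerived_exact R2
  let T := DCoh.restrictD U.ι ⋙ DCoh.Rpush (f ∣_ V)
  let H := R2 ⋙ Scheme.Modules.pushforward (f ∣_ V)
  haveI := KInjDerived.hasRightDerivedFunctor
    (H.mapHomotopyCategory (ComplexShape.up ℤ) ⋙ DerivedCategory.Qh)
    (KFlatLib.enoughKInj_modules (X := X))
  let RH := (H.mapHomotopyCategory (ComplexShape.up ℤ) ⋙ DerivedCategory.Qh).totalRightDerived
    DerivedCategory.Qh (HomotopyCategory.quasiIso X.Modules (ComplexShape.up ℤ))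
  let γ := (H.mapHomotopyCategory (ComplexShape.up ℤ) ⋙ DerivedCategory.Qh).totalRightDerivedUnit
    DerivedCategory.Qh (HomotopyCategory.quasiIso X.Modules (ComplexShape.up ℤ))
  obtain ⟨e₁⟩ := nonempty_compIso (F := Scheme.Modules.pushforward f) (G := R1) (H := H)
    (restrictPushIso f V) (DCoh.Rpush f) (pushUnit f) R1.mapDerivedCategory
    R1.mapDerivedCategoryFactorsh.inv RH γ KFlatLib.enoughKInj_modules (fun I hI => inferInstance)
  obtain ⟨e₂⟩ := nonempty_compIso (F := R2) (G := Scheme.Modules.pushforward (f ∣_ V)) (H := H)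
    (Iso.refl _) R2.mapDerivedCategory R2.mapDerivedCategoryFactorsh.inv (DCoh.Rpush (f ∣_ V))
    (pushUnit (f ∣_ V)) RH γ KFlatLib.enoughKInj_modules (fun I hI => isIso_pushUnit (f ∣_ V) _)
  exact ⟨e₁ ≪≫ e₂.symm⟩

theorem isKFlat_singleFree (U : X.Opens) (n : ℤ) :
    DCoh.IsKFlat ((HomologicalComplex.single X.Modules (ComplexShape.up ℤ) n).obj (KFlatLib.freeU U)) := by
  refine KFlatLib.isKFlat_of_bounded_flat_mod _ n
    (fun i hi => HomologicalComplex.isZero_single_obj_X _ _ _ _ hi.ne') fun i => ?_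
  by_cases h : i = n
  · subst h
    refine KFlatLib.flat_of_iso (HomologicalComplex.singleObjXSelf (ComplexShape.up ℤ) i _).symm ?_
    intro x
    have := KFlatLib.projective_stalk_freeU U x
    have : Module.Projective (X.presheaf.stalk x) ((DerSch.stalkFunctor X x).obj (KFlatLib.freeU U)) :=
      (IsProjective.iff_projective (R := X.presheaf.stalk x) (P := _)).mpr this
    exact (inferInstance : Module.Flat (X.presheaf.stalk x)
      ((DerSch.stalkFunctor X x).obj (KFlatLib.freeU U)))
  · exact KFlatLib.flat_of_isZero (HomologicalComplex.isZero_single_obj_X _ _ _ _ h)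

theorem isKFlat_shift_singleFree (U : X.Opens) (n k : ℤ) :
    DCoh.IsKFlat (((HomologicalComplex.single X.Modules (ComplexShape.up ℤ) n).obj
      (KFlatLib.freeU U))⟦k⟧) := by
  refine KFlatLib.isKFlat_of_bounded_flat_mod _ (n - k) (fun i hi => ?_) fun i => ?_
  · exact HomologicalComplex.isZero_single_obj_X (ComplexShape.up ℤ) n (KFlatLib.freeU U) (i + k)
      (by omega)
  · change FlatMod.IsFlat (((HomologicalComplex.single X.Modules (ComplexShape.up ℤ) n).obj
      (KFlatLib.freeU U)).X (i + k))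
    by_cases h : i + k = n
    · rw [h]
      refine KFlatLib.flat_of_iso (HomologicalComplex.singleObjXSelf (ComplexShape.up ℤ) n _).symm ?_
      intro x
      have := KFlatLib.projective_stalk_freeU U x
      have : Module.Projective (X.presheaf.stalk x) ((DerSch.stalkFunctor X x).obj (KFlatLib.freeU U)) :=
        (IsProjective.iff_projective (R := X.presheaf.stalk x) (P := _)).mpr this
      exact (inferInstance : Module.Flat (X.presheaf.stalk x)
        ((DerSch.stalkFunctor X x).obj (KFlatLib.freeU U)))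
    · exact KFlatLib.flat_of_isZero (HomologicalComplex.isZero_single_obj_X _ _ _ _ h)

/-- `f_*` of a K-injective complex is acyclic for global sections. -/
theorem isIso_gammaUnit_push (f : X ⟶ Y) [DCoh.HasRΓ Y] (I : CochainComplex X.Modules ℤ) [I.IsKInjective] :
    IsIso ((gammaUnit Y).app ((HomotopyCategory.quotient Y.Modules (ComplexShape.up ℤ)).obj
      (((Scheme.Modules.pushforward f).mapHomologicalComplex (ComplexShape.up ℤ)).obj I))) := by
  obtain ⟨J, s, hJ, hs⟩ := KFlatLib.enoughKInj_modules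
    (((Scheme.Modules.pushforward f).mapHomologicalComplex (ComplexShape.up ℤ)).obj I)
  haveI : QuasiIso (((DCoh.gammaAb Y).mapHomologicalComplex (ComplexShape.up ℤ)).map s) :=
    quasiIso_sections (Scheme.Modules.pullbackPushforwardAdjunction f) (fun P => DCoh.IsKFlat P)
      (fun K => ⟨_, (KFlatLib.resψ Y).app K, (KFlatLib.good_resP K).1, KFlatLib.quasiIso_resψ K⟩)
      (fun g hP hQ _ => KFlatLib.quasiIso_pull f hP hQ g)
      (KFlatLib.freeU (⊤ : Y.Opens)) (fun M => KFlatLib.freeUEquiv ⊤ M)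
      (fun a p => KFlatLib.freeUEquiv_comp ⊤ a p)
      (fun n k => isKFlat_shift_singleFree ⊤ n k) (fun n => isKFlat_singleFree ⊤ n) I s
  exact isIso_unit_of_quasiIso KFlatLib.enoughKInj_modules (DCoh.RΓ Y) (gammaUnit Y) s

/-- `pushforward ⋙ Γ = Γ`. -/
noncomputable def pushGammaIso (f : X ⟶ Y) :
    Scheme.Modules.pushforward f ⋙ DCoh.gammaAb Y ≅ DCoh.gammaAb X :=
  NatIso.ofComponents (fun M => Iso.refl _) (fun _ => rfl)

/-- `RΓ(Y, Rf_* E) ≅ RΓ(X, E)`. -/
theorem nonempty_RΓ_Rpush (f : X ⟶ Y) [DCoh.HasRpush f] [DCoh.HasRΓ X] [DCoh.HasRΓ Y] :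
    Nonempty (DCoh.Rpush f ⋙ DCoh.RΓ Y ≅ DCoh.RΓ X) :=
  nonempty_compIso (pushGammaIso f) (DCoh.Rpush f) (pushUnit f) (DCoh.RΓ Y) (gammaUnit Y)
    (DCoh.RΓ X) (gammaUnit X) KFlatLib.enoughKInj_modules fun I _ => isIso_gammaUnit_push f I

/-- `(f_* B)|_U` is acyclic for global sections. -/
theorem isIso_gammaUnit_restrict_push (f : X ⟶ Y) (B : CochainComplex X.Modules ℤ) [B.IsKInjective]
    (U : Y.Opens) [DCoh.HasRΓ (U : Scheme.{u})] :
    IsIso ((gammaUnit (U : Scheme.{u})).app ((HomotopyCategory.quotient _ (ComplexShape.up ℤ)).obj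
      ((DCoh.restrictCx U).obj
        (((Scheme.Modules.pushforward f).mapHomologicalComplex (ComplexShape.up ℤ)).obj B)))) := by
  haveI := isKInjective_restrictCx (f ⁻¹ᵁ U) B
  have h := isIso_gammaUnit_push (f ∣_ U)
    (((Scheme.Modules.restrictFunctor (f ⁻¹ᵁ U).ι).mapHomologicalComplex (ComplexShape.up ℤ)).obj B)
  refine (NatTrans.isIso_app_iff_of_iso (gammaUnit (U : Scheme.{u}))
    ((HomotopyCategory.quotient _ (ComplexShape.up ℤ)).mapIso
      (HomologicalComplex.Hom.isoOfComponents (fun i => (restrictPushIso f U).symm.app (B.X i))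
        (fun i j _ => ((restrictPushIso f U).inv.naturality (B.d i j)).symm)))).1 h

end Groth.Agent.DCohRestrLib
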