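import Groth.Agent.DCohRestrLib.Support
import Groth.Agent.DerCompLib.Restr
import Groth.Agent.PerfLib.Restrict

set_option autoImplicit false
set_option linter.style.haveILetI false
set_option backward.isDefEq.respectTransparency false
set_option backward.isDefEq.respectTransparency.types false

universe u

/-!
# Glueing objects of `D(O_X)` on two opens
-/

open CategoryTheory CategoryTheory.Limits AlgebraicGeometry TopologicalSpace Opposite
open Groth.Agent.DerLib CategoryTheory.Pretriangulated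

attribute [local instance] HasDerivedCategory.standard

namespace Groth.Agent.DCohRestrLib

variable {X : Scheme.{u}}

/-- `j_! ⊣ (-)|_U` on derived categories. -/
noncomputable abbrev adjD (U : X.Opens) [PreservesFiniteLimits (CxOX.extZero U.ι)] :
    CxOX.extZeroD U.ι ⊣ DCoh.restrictD U.ι :=
  Groth.Agent.DerCompLib.exactAdjD (CxOX.extZeroAdj U.ι)

theorem isIso_adjD_unit (U : X.Opens) [PreservesFiniteLimits (CxOX.extZero U.ι)]
    (C : DCoh.D (U : Scheme.{u})) : IsIso ((adjD U).unit.app C) := by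
  haveI := isIso_extZeroAdj_unit U
  let K := DerivedCategory.Q.objPreimage C
  rw [← NatTrans.isIso_app_iff_of_iso (adjD U).unit (DerivedCategory.Q.objObjPreimageIso C)]
  haveI : IsIso ((KInjDerived.mapHomologicalComplexAdj (CxOX.extZeroAdj U.ι)
      (ComplexShape.up ℤ)).unit.app K) := by
    haveI : ∀ i, IsIso (((KInjDerived.mapHomologicalComplexAdj (CxOX.extZeroAdj U.ι)
        (ComplexShape.up ℤ)).unit.app K).f i) := fun i =>
      inferInstanceAs (IsIso ((CxOX.extZeroAdj U.ι).unit.app (K.X i)))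
    exact HomologicalComplex.Hom.isIso_of_components _
  unfold adjD Groth.Agent.DerCompLib.exactAdjD
  rw [Adjunction.localization_unit_app]
  infer_instance

/-- An object on `U` and a comparison on a smaller open give a map out of the extension by zero,
invertible there. -/
theorem exists_hom_extZeroD (W : X.Opens) [PreservesFiniteLimits (CxOX.extZero W.ι)]
    {C : DCoh.D (W : Scheme.{u})} {G : DCoh.D X} (i : C ≅ (DCoh.restrictD W.ι).obj G) :
    ∃ φ : (CxOX.extZeroD W.ι).obj C ⟶ G, IsIso ((DCoh.restrictD W.ι).map φ) := by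
  let φ := ((adjD W).homEquiv C G).symm i.hom
  refine ⟨φ, ?_⟩
  haveI := isIso_adjD_unit W C
  have h : (adjD W).unit.app C ≫ (DCoh.restrictD W.ι).map φ = i.hom := by
    refine Eq.trans ?_ (Equiv.apply_symm_apply ((adjD W).homEquiv C G) i.hom)
    exact ((adjD W).homEquiv_unit _ _ φ).symm
  exact @IsIso.of_isIso_comp_left _ _ _ _ _ ((adjD W).unit.app C) _ inferInstance
    (by rw [h]; infer_instance)

theorem isIso_stalk_of_restrict {W : Scheme.{u}} (j : W ⟶ X) [IsOpenImmersion j] {M N : X.Modules}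
    (f : M ⟶ N) [IsIso ((Scheme.Modules.restrictFunctor j).map f)] (w : W) :
    IsIso ((DerSch.stalkFunctor X (j w)).map f) := by
  rw [ConcreteCategory.isIso_iff_bijective]
  haveI : IsIso ((Scheme.Modules.restrictFunctor j ⋙ Scheme.Modules.toPresheaf W ⋙
      TopCat.Presheaf.stalkFunctor Ab.{u} (w : W.toTopCat)).map f) :=
    inferInstanceAs (IsIso ((Scheme.Modules.toPresheaf W ⋙
      TopCat.Presheaf.stalkFunctor Ab.{u} (w : W.toTopCat)).map
        ((Scheme.Modules.restrictFunctor j).map f)))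
  haveI h : IsIso ((Scheme.Modules.toPresheaf X ⋙
      TopCat.Presheaf.stalkFunctor Ab.{u} (j w : X.toTopCat)).map f) :=
    (NatIso.isIso_map_iff (Scheme.Modules.restrictStalkNatIso j w) f).1 inferInstance
  exact @ConcreteCategory.bijective_of_isIso _ _ _ _ _ _ _ _
    ((Scheme.Modules.toPresheaf X ⋙
      TopCat.Presheaf.stalkFunctor Ab.{u} (j w : X.toTopCat)).map f) h

theorem isIso_restrict_HD {W : Scheme.{u}} (j : W ⟶ X) [IsOpenImmersion j]
    [PreservesFiniteLimits (Scheme.Modules.restrictFunctor j)] {P Q : DCoh.D X} (φ : P ⟶ Q)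
    [IsIso ((DCoh.restrictD j).map φ)] (i : ℤ) :
    IsIso ((Scheme.Modules.restrictFunctor j).map ((DerivedCategory.homologyFunctor X.Modules i).map φ)) :=
  (NatIso.isIso_map_iff (ExactHomology.homologyIso (Scheme.Modules.restrictFunctor j) i) φ).1
    (inferInstanceAs (IsIso ((DerivedCategory.homologyFunctor W.Modules i).map ((DCoh.restrictD j).map φ))))

/-- A map invertible on an open `W`, between objects supported in `V`, is invertible on `U` when
`U ⊓ V ≤ W`. -/
theorem isIso_restrictD_of_support (U V W : X.Opens) (hW : U ⊓ V ≤ W) {P Q : DCoh.D X} (φ : P ⟶ Q)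
    [IsIso ((DCoh.restrictD W.ι).map φ)]
    (hP : ∀ i : ℤ, CohB1.support (DCoh.HD P i) ⊆ (V : Set X))
    (hQ : ∀ i : ℤ, CohB1.support (DCoh.HD Q i) ⊆ (V : Set X)) :
    IsIso ((DCoh.restrictD U.ι).map φ) := by
  rw [DerivedCategory.isIso_iff]
  intro i
  refine (NatIso.isIso_map_iff (ExactHomology.homologyIso (Scheme.Modules.restrictFunctor U.ι) i) φ).2 ?_
  refine PerfCompLib.isIso_restrict_of_stalks U.ι _ fun v => ?_
  by_cases hv : U.ι v ∈ V
  · haveI := isIso_restrict_HD W.ι φ i
    exact isIso_stalk_of_restrict W.ι ((DerivedCategory.homologyFunctor X.Modules i).map φ)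
      ⟨U.ι v, hW ⟨v.2, hv⟩⟩
  · have hs : ∀ (R : DCoh.D X), (CohB1.support (DCoh.HD R i) ⊆ (V : Set X)) →
        IsZero ((DerSch.stalkFunctor X (U.ι v)).obj (DCoh.HD R i)) := fun R hR => by
      haveI : Subsingleton ((DerSch.stalkFunctor X (U.ι v)).obj (DCoh.HD R i)) :=
        not_not.1 fun h => hv (hR h)
      exact ModuleCat.isZero_of_subsingleton _
    exact isIso_of_isTerminal (hs P (hP i)).isTerminal (hs Q (hQ i)).isTerminal _

/-- A triangular automorphism of biproducts. -/
@[simps]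
noncomputable def triangularIso {D : Type*} [Category D] [Preadditive D] [HasBinaryBiproducts D]
    {P A B : D} (β : P ⟶ A) (α : P ⟶ B) [IsIso α] : P ⊞ A ≅ A ⊞ B where
  hom := biprod.desc (biprod.lift β α) biprod.inl
  inv := biprod.desc biprod.inr (inv α ≫ (biprod.inl - β ≫ biprod.inr))
  hom_inv_id := by
    have hl : biprod.lift β α = β ≫ biprod.inl + α ≫ biprod.inr := by
      apply biprod.hom_ext <;> simp
    apply biprod.hom_ext'
    · rw [biprod.inl_desc_assoc, hl, Category.comp_id, Preadditive.add_comp, Category.assoc,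
        Category.assoc, biprod.inl_desc, biprod.inr_desc, IsIso.hom_inv_id_assoc]
      abel
    · simp
  inv_hom_id := by
    have hl : biprod.lift β α = β ≫ biprod.inl + α ≫ biprod.inr := by
      apply biprod.hom_ext <;> simp
    apply biprod.hom_ext'
    · simp
    · rw [biprod.inr_desc_assoc, Category.comp_id, Category.assoc, Preadditive.sub_comp,
        Category.assoc, biprod.inl_desc, biprod.inr_desc, hl, add_sub_cancel_left,
        IsIso.inv_hom_id_assoc]

/-- A distinguished triangle `P ⟶ A ⊞ B ⟶ R` whose component `P ⟶ B` is invertible has `R ≅ A`. -/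
theorem nonempty_iso_of_isIso_snd {D : Type*} [Category D] [Preadditive D] [HasZeroObject D]
    [HasShift D ℤ] [∀ n : ℤ, (shiftFunctor D n).Additive] [Pretriangulated D] [HasBinaryBiproducts D]
    (T : Triangle D) (hT : T ∈ distinguishedTriangles) {A B : D} (e : T.obj₂ ≅ A ⊞ B)
    (h : IsIso (T.mor₁ ≫ e.hom ≫ biprod.snd)) : Nonempty (A ≅ T.obj₃) := by
  let α := T.mor₁ ≫ e.hom ≫ biprod.snd
  haveI : IsIso α := h
  let β := T.mor₁ ≫ e.hom ≫ biprod.fst
  let Ψ := triangularIso β α
  let e₂ : T.obj₁ ⊞ A ≅ T.obj₂ := Ψ ≪≫ e.symm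
  exact ⟨Triangle.π₃.mapIso (isoTriangleOfIso₁₂ _ _ (binaryBiproductTriangle_distinguished T.obj₁ A) hT
    (Iso.refl _) e₂ (by
      have hl : biprod.lift (T.mor₁ ≫ e.hom ≫ biprod.fst) (T.mor₁ ≫ e.hom ≫ biprod.snd) = T.mor₁ ≫ e.hom := by
        apply biprod.hom_ext <;> simp
      simp [e₂, Ψ, triangularIso, α, β, hl]))⟩

theorem nonempty_glue (U V : X.Opens) [PreservesFiniteLimits (CxOX.extZero U.ι)]
    [PreservesFiniteLimits (CxOX.extZero V.ι)] [PreservesFiniteLimits (CxOX.extZero (U ⊓ V).ι)]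
    (A : DCoh.D (U : Scheme.{u})) (B : DCoh.D (V : Scheme.{u}))
    (C : DCoh.D ((U ⊓ V : X.Opens) : Scheme.{u}))
    (iA : C ≅ (DCoh.restrictD (U ⊓ V).ι).obj ((CxOX.extZeroD U.ι).obj A))
    (iB : C ≅ (DCoh.restrictD (U ⊓ V).ι).obj ((CxOX.extZeroD V.ι).obj B)) :
    ∃ F : DCoh.D X, Nonempty ((DCoh.restrictD U.ι).obj F ≅ A) ∧
      Nonempty ((DCoh.restrictD V.ι).obj F ≅ B) := by
  obtain ⟨φ, hφ⟩ := exists_hom_extZeroD (U ⊓ V) iA
  obtain ⟨ψ, hψ⟩ := exists_hom_extZeroD (U ⊓ V) iB
  obtain ⟨F, p, q, hT⟩ := distinguished_cocone_triangle (biprod.lift φ ψ)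
  have hP : ∀ (W : X.Opens), U ⊓ V ≤ W → ∀ i : ℤ,
      CohB1.support (DCoh.HD ((CxOX.extZeroD (U ⊓ V).ι).obj C) i) ⊆ (W : Set X) := fun W hW i =>
    (support_HD_extZeroD (U ⊓ V) C i).trans (by rintro _ ⟨w, -, rfl⟩; exact hW w.2)
  have hA : ∀ i : ℤ, CohB1.support (DCoh.HD ((CxOX.extZeroD U.ι).obj A) i) ⊆ (U : Set X) := fun i =>
    (support_HD_extZeroD U A i).trans (by rintro _ ⟨w, -, rfl⟩; exact w.2)
  have hB : ∀ i : ℤ, CohB1.support (DCoh.HD ((CxOX.extZeroD V.ι).obj B) i) ⊆ (V : Set X) := fun i =>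
    (support_HD_extZeroD V B i).trans (by rintro _ ⟨w, -, rfl⟩; exact w.2)
  obtain ⟨eA⟩ := nonempty_restrictD_extZeroD U A
  obtain ⟨eB⟩ := nonempty_restrictD_extZeroD V B
  refine ⟨F, ?_, ?_⟩
  · let R := DCoh.restrictD U.ι
    haveI : PreservesBinaryBiproducts R :=
      haveI : PreservesFiniteBiproducts R := Functor.preservesFiniteBiproductsOfAdditive _
      preservesBinaryBiproducts_of_preservesBiproducts _
    have hiso : IsIso (R.map ψ) :=
      isIso_restrictD_of_support U V (U ⊓ V) le_rfl ψ (hP V inf_le_right) hB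
    obtain ⟨e⟩ := nonempty_iso_of_isIso_snd (R.mapTriangle.obj (Triangle.mk (biprod.lift φ ψ) p q))
      (R.map_distinguished _ hT) (R.mapBiprod _ _) (by
        refine cast (congrArg (fun m => IsIso m) ?_) hiso
        change R.map ψ = R.map (biprod.lift φ ψ) ≫ (R.mapBiprod _ _).hom ≫ biprod.snd
        rw [Functor.mapBiprod_hom, biprod.lift_snd, ← Functor.map_comp, biprod.lift_snd])
    exact ⟨e.symm ≪≫ eA⟩
  · let R := DCoh.restrictD V.ι
    haveI : PreservesBinaryBiproducts R :=
      haveI : PreservesFiniteBiproducts R := Functor.preservesFiniteBiproductsOfAdditive _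
      preservesBinaryBiproducts_of_preservesBiproducts _
    have hiso : IsIso (R.map φ) :=
      isIso_restrictD_of_support V U (U ⊓ V) (inf_comm V U).le φ (hP U inf_le_left) hA
    obtain ⟨e⟩ := nonempty_iso_of_isIso_snd (R.mapTriangle.obj (Triangle.mk (biprod.lift φ ψ) p q))
      (R.map_distinguished _ hT) (R.mapBiprod _ _ ≪≫ biprod.braiding _ _) (by
        refine cast (congrArg (fun m => IsIso m) ?_) hiso
        change R.map φ = R.map (biprod.lift φ ψ) ≫
          ((R.mapBiprod _ _).hom ≫ (biprod.braiding _ _).hom) ≫ biprod.snd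
        rw [Functor.mapBiprod_hom, biprod.braiding_hom, Category.assoc, biprod.lift_snd,
          biprod.lift_fst, ← Functor.map_comp, biprod.lift_fst])
    exact ⟨e.symm ≪≫ eB⟩

end Groth.Agent.DCohRestrLib
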